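import Mathlib
import Groth.Agent.H23FunFld.Weil
import Groth.Prelude.Def_W4bk4goldsch45

/-!
Counting effective divisors over a finite constant field.
-/

set_option autoImplicit false
set_option linter.unusedSectionVars false
set_option linter.style.haveILetI false

namespace Groth.Agent.H23Zeta

open Groth.Agent.H23FunFld

variable {k K : Type*} [Field k] [Field K] [Algebra k K]

theorem degHom_eq (D : FunFld.Divisor k K) : FunFld.degHom k K D = D.deg := by
  simp [FunFld.degHom, FunFld.Divisor.deg]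

variable (hK : FunFld.IsFunctionField k K)
include hK

/-- The principal divisors. -/
theorem mem_prinDivs {D : FunFld.Divisor k K} :
    D ∈ FunFld.prinDivs k K ↔ ∃ x : K, x ≠ 0 ∧ D = FunFld.div k x := by
  constructor
  · intro h
    induction h using AddSubgroup.closure_induction with
    | mem D hD =>
      obtain ⟨x, rfl⟩ := hD
      rcases eq_or_ne x 0 with rfl | hx
      · exact ⟨1, one_ne_zero, by rw [div_zero' hK, ← map_one (algebraMap k K), div_const hK]⟩
      · exact ⟨x, hx, rfl⟩
    | zero => exact ⟨1, one_ne_zero, by rw [← map_one (algebraMap k K), div_const hK]⟩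
    | add D E _ _ hD hE =>
      obtain ⟨x, hx, rfl⟩ := hD
      obtain ⟨y, hy, rfl⟩ := hE
      exact ⟨x * y, mul_ne_zero hx hy, (div_mul hK hx hy).symm⟩
    | neg D _ hD =>
      obtain ⟨x, hx, rfl⟩ := hD
      exact ⟨x⁻¹, inv_ne_zero hx, (div_inv hK x).symm⟩
  · rintro ⟨x, -, rfl⟩
    exact AddSubgroup.subset_closure ⟨x, rfl⟩

theorem mk_eq_mk_iff {D E : FunFld.Divisor k K} :
    (QuotientAddGroup.mk D : FunFld.Divisor k K ⧸ FunFld.prinDivs k K) = QuotientAddGroup.mk E ↔
      ∃ x : K, x ≠ 0 ∧ E = D + FunFld.div k x := by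
  rw [QuotientAddGroup.eq, mem_prinDivs hK]
  refine exists_congr fun x => and_congr_right fun _ => ⟨fun h => ?_, fun h => ?_⟩
  · rw [← h]; abel
  · rw [h]; abel

variable [Finite k]

/-- There are finitely many places of bounded degree. -/
theorem finite_places_deg_le (n : ℕ) : {P : FunFld.Place k K | P.deg ≤ n}.Finite := by
  classical
  obtain ⟨x, hx, -⟩ := hK.1
  have hpoly : {p : Polynomial k | p.Monic ∧ p.natDegree ≤ n}.Finite := by
    refine (Set.finite_range fun c : Fin (n + 1) → k => ∑ i, Polynomial.C (c i) * Polynomial.X ^ (i : ℕ)).subset ?_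
    rintro p ⟨-, hp⟩
    refine ⟨fun i => p.coeff i, ?_⟩
    simp only
    rw [Fin.sum_univ_eq_sum_range (fun i => Polynomial.C (p.coeff i) * Polynomial.X ^ i)]
    exact (p.as_sum_range_C_mul_X_pow' (Nat.lt_succ_of_le hp)).symm
  refine ((finite_zeros hK x⁻¹).union (hpoly.biUnion fun p _ => finite_zeros hK (Polynomial.aeval x p))).subset ?_
  intro P hP
  rcases lt_or_ge 0 (P.ord x⁻¹) with h | h
  · exact Or.inl h
  right
  have hx0 : x ≠ 0 := fun h => hx (h ▸ isAlgebraic_zero)
  have hxP : P.1 x ≤ 1 := (val_le_one_iff P hx0).2 (by rw [ord_inv] at h; omega)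
  set r := IsLocalRing.residue P.O ⟨x, hxP⟩
  have hint : IsIntegral k r :=
    (@Algebra.IsIntegral.of_finite k _ _ _ _ (finiteDimensional_residueField hK P)).isIntegral r
  have hdeg : (minpoly k r).natDegree ≤ P.deg :=
    @minpoly.natDegree_le k _ _ _ _ (finiteDimensional_residueField hK P) r _
  refine Set.mem_iUnion₂.2 ⟨minpoly k r, ⟨minpoly.monic hint, hdeg.trans hP⟩, ?_⟩
  have hne : Polynomial.aeval x (minpoly k r) ≠ 0 := fun h0 =>
    hx ⟨minpoly k r, minpoly.ne_zero hint, h0⟩
  change 0 < P.ord _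
  rw [← val_lt_one_iff P hne]
  have hle : P.1 (Polynomial.aeval x (minpoly k r)) ≤ 1 := by
    rw [Polynomial.aeval_eq_sum_range]
    exact P.1.map_sum_le fun i _ => (val_smul_le P _ _).trans (by rw [map_pow]; exact pow_le_one' hxP i)
  refine lt_of_le_of_ne hle fun h1 => ?_
  have e : (⟨_, hle⟩ : P.O) = Polynomial.aeval (⟨x, hxP⟩ : P.O) (minpoly k r) := by
    refine Subtype.ext ?_
    change Polynomial.aeval x (minpoly k r) = P.O.subtype (Polynomial.aeval (⟨x, hxP⟩ : P.O) (minpoly k r))
    rw [Polynomial.aeval_def, Polynomial.aeval_def, Polynomial.hom_eval₂]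
    rfl
  have h2 : IsLocalRing.residue P.O (⟨_, hle⟩ : P.O) = 0 := by
    rw [e, Polynomial.aeval_def, Polynomial.hom_eval₂]
    exact minpoly.aeval k r
  rw [IsLocalRing.residue_eq_zero_iff, IsLocalRing.mem_maximalIdeal, mem_nonunits_iff] at h2
  exact h2 ((Valuation.Integers.isUnit_iff_valuation_eq_one (Valuation.integer.integers P.1)).2 h1)

/-- There are finitely many effective divisors of a given degree. -/
theorem finite_effective (n : ℤ) : {D : FunFld.Divisor k K | 0 ≤ D ∧ D.deg = n}.Finite := by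
  classical
  set S := (finite_places_deg_le hK n.toNat).toFinset
  refine (Set.finite_range fun f : S → Fin (n.toNat + 1) => ∑ P : S, Finsupp.single (P : FunFld.Place k K) ((f P : ℕ) : ℤ)).subset ?_
  rintro D ⟨hD, hdeg⟩
  have hterm : ∀ P ∈ D.support, D P * P.deg ≤ n := by
    intro P hP
    rw [← hdeg]
    exact Finset.single_le_sum (f := fun P => D P * (P.deg : ℤ)) (fun Q _ => mul_nonneg (hD Q) (Int.natCast_nonneg _)) hP
  have hb : ∀ P ∈ D.support, D P ≤ n ∧ P ∈ S := by
    intro P hP
    have h1 := hterm P hP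
    have h2 : 1 ≤ D P := by
      have := hD P
      have := Finsupp.mem_support_iff.1 hP
      simp only [Finsupp.coe_zero, Pi.zero_apply] at *
      omega
    have h3 : (1 : ℤ) ≤ P.deg := by exact_mod_cast deg_pos hK P
    refine ⟨by nlinarith, ?_⟩
    simp only [S, Set.Finite.mem_toFinset]
    change P.deg ≤ n.toNat
    have : (P.deg : ℤ) ≤ n := by nlinarith
    omega
  have hb' : ∀ P, (D P).toNat < n.toNat + 1 := fun P => by
    by_cases hP : P ∈ D.support
    · have := (hb P hP).1; omega
    · rw [Finsupp.notMem_support_iff.1 hP]; simp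
  refine ⟨fun P => ⟨(D P).toNat, hb' P⟩, Finsupp.ext fun Q => ?_⟩
  simp only [Finsupp.finsetSum_apply, Finsupp.single_apply]
  have hD' : ∀ P, ((D P).toNat : ℤ) = D P := fun P => Int.toNat_of_nonneg (hD P)
  simp only [hD']
  rw [Finset.sum_coe_sort S (fun P => if P = Q then D P else 0), Finset.sum_ite_eq']
  split
  · rfl
  · rename_i hQ
    by_contra h
    exact hQ (hb Q (Finsupp.mem_support_iff.2 (Ne.symm h))).2

/-- The effective members of a linear class. -/
theorem card_effective_class (D : FunFld.Divisor k K) :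
    ((Nat.card k : ℤ) - 1) * (Nat.card {E : FunFld.Divisor k K // 0 ≤ E ∧
      (QuotientAddGroup.mk E : FunFld.Divisor k K ⧸ FunFld.prinDivs k K) = QuotientAddGroup.mk D} : ℤ) =
      (Nat.card k : ℤ) ^ FunFld.ell D - 1 := by
  classical
  set T := {E : FunFld.Divisor k K // 0 ≤ E ∧
    (QuotientAddGroup.mk E : FunFld.Divisor k K ⧸ FunFld.prinDivs k K) = QuotientAddGroup.mk D}
  have hex : ∀ E : T, ∃ x : K, x ≠ 0 ∧ E.1 = D + FunFld.div k x := fun E => (mk_eq_mk_iff hK).1 E.2.2.symm
  choose x hx0 hx using hex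
  haveI := finiteDimensional_L hK D
  haveI : Finite (FunFld.L D) := Module.finite_of_finite k
  let f : T × kˣ → {v : FunFld.L D // v ≠ 0} := fun p =>
    ⟨⟨(p.2 : k) • x p.1, Submodule.smul_mem _ _ ((mem_L_iff_div hK (hx0 p.1)).2 (hx p.1 ▸ p.1.2.1))⟩,
      fun h => smul_ne_zero p.2.ne_zero (hx0 p.1) (congrArg Subtype.val h)⟩
  have hf : Function.Bijective f := by
    constructor
    · rintro ⟨E, c⟩ ⟨E', c'⟩ h
      have h1 : (c : k) • x E = (c' : k) • x E' := congrArg (fun v => ((v : {v : FunFld.L D // v ≠ 0}).1 : K)) h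
      have hdiv : FunFld.div k (x E) = FunFld.div k (x E') := by
        have h2 := congrArg (FunFld.div k) h1
        rw [Algebra.smul_def, Algebra.smul_def, div_mul hK (by simp) (hx0 E), div_mul hK (by simp) (hx0 E'),
          div_const hK, div_const hK, zero_add, zero_add] at h2
        exact h2
      obtain rfl : E = E' := Subtype.ext (by rw [hx E, hx E', hdiv])
      refine Prod.ext rfl (Units.ext ?_)
      exact smul_left_injective k (hx0 E) h1
    · rintro ⟨⟨v, hv⟩, hv0⟩
      have hv0' : v ≠ 0 := fun h => hv0 (Subtype.ext h)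
      let E : T := ⟨D + FunFld.div k v, (mem_L_iff_div hK hv0').1 hv, ((mk_eq_mk_iff hK).2 ⟨v, hv0', rfl⟩).symm⟩
      have hE : D + FunFld.div k v = D + FunFld.div k (x E) := hx E
      have hdiv : FunFld.div k (v * (x E)⁻¹) = 0 := by
        rw [div_mul hK hv0' (inv_ne_zero (hx0 E)), div_inv hK, add_left_cancel hE]; abel
      have hmem : v * (x E)⁻¹ ∈ FunFld.L (0 : FunFld.Divisor k K) :=
        (mem_L_iff_div hK (mul_ne_zero hv0' (inv_ne_zero (hx0 E)))).2 (by rw [hdiv, add_zero])
      rw [L_zero hK] at hmem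
      obtain ⟨c, hc⟩ := Submodule.mem_one.1 hmem
      have hc0 : c ≠ 0 := fun h0 => by
        rw [h0, map_zero] at hc
        exact mul_ne_zero hv0' (inv_ne_zero (hx0 E)) hc.symm
      refine ⟨⟨E, Units.mk0 c hc0⟩, Subtype.ext (Subtype.ext ?_)⟩
      change c • x E = v
      rw [Algebra.smul_def, hc, inv_mul_cancel_right₀ (hx0 E)]
  haveI : Fintype (FunFld.L D) := Fintype.ofFinite _
  have h1 := Nat.card_eq_of_bijective f hf
  rw [Nat.card_prod, Nat.card_units] at h1
  have h2 : Nat.card {v : FunFld.L D // v ≠ 0} = Nat.card k ^ FunFld.ell D - 1 := by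
    rw [Nat.card_eq_fintype_card, Fintype.card_subtype_compl, Fintype.card_subtype_eq,
      ← Nat.card_eq_fintype_card, Module.natCard_eq_pow_finrank (K := k)]
    rfl
  rw [h2] at h1
  have hq : 1 ≤ Nat.card k := Nat.card_pos
  have hp : 1 ≤ Nat.card k ^ FunFld.ell D := Nat.one_le_pow _ _ Nat.card_pos
  zify [hq, hp] at h1
  linarith

end Groth.Agent.H23Zeta
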