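import Mathlib
import Groth.Agent.H23Ext.Galois
import Groth.Agent.H23Ext.Constants
import Groth.Agent.H23Zeta.Count

/-!
Constant field extensions over a finite field.
-/

set_option autoImplicit false
set_option linter.unusedSectionVars false
set_option linter.style.haveILetI false

namespace Groth.Agent.H23Zeta

open Groth.Agent.H23FunFld Groth.Agent.H23Ext Polynomial

/-- An irreducible polynomial stays irreducible when the constants are algebraically closed in `K`. -/
theorem irreducible_map {k K : Type*} [Field k] [Field K] [Algebra k K]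
    (hc : ∀ y : K, IsAlgebraic k y → y ∈ Set.range (algebraMap k K)) {f : k[X]} (hf : Irreducible f)
    (hm : f.Monic) : Irreducible (f.map (algebraMap k K)) := by
  rw [Polynomial.irreducible_of_monic (hm.map _)]
  swap
  · exact fun h => hf.ne_one (Polynomial.map_injective _ (algebraMap k K).injective (by rw [h, Polynomial.map_one]))
  intro a b ha hb hab
  have hlift : ∀ u v : K[X], u.Monic → u * v = f.map (algebraMap k K) → ∃ u₀ : k[X], u₀.map (algebraMap k K) = u := by
    intro u v hu huv
    refine (Polynomial.lifts_iff_coeff_lifts u).2 (fun i => hc _ ?_)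
    exact (Polynomial.isIntegral_coeff_of_dvd f u hm hu ⟨v, huv.symm⟩ i).isAlgebraic
  obtain ⟨a₀, rfl⟩ := hlift a b ha hab
  obtain ⟨b₀, rfl⟩ := hlift b _ hb ((mul_comm _ _).trans hab)
  have ha0 := Polynomial.monic_of_injective (algebraMap k K).injective ha
  have hb0 := Polynomial.monic_of_injective (algebraMap k K).injective hb
  rw [← Polynomial.map_mul] at hab
  rcases hf.isUnit_or_isUnit (Polynomial.map_injective _ (algebraMap k K).injective hab).symm with h | h
  · exact Or.inl (by rw [ha0.eq_one_of_isUnit h, Polynomial.map_one])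
  · exact Or.inr (by rw [hb0.eq_one_of_isUnit h, Polynomial.map_one])

section Over

variable {k K k' K' : Type*} [Field k] [Field K] [Field k'] [Field K'] [Algebra k K] [Algebra k k']
  [Algebra K K'] [Algebra k' K'] [Algebra k K'] [IsScalarTower k K K'] [IsScalarTower k k' K']
  [FiniteDimensional k k']

/-- A place over the larger constants as a place over `k`. -/
def toBase (Q : FunFld.Place k' K') : FunFld.Place k K' :=
  ⟨Q.1, fun c => by rw [IsScalarTower.algebraMap_apply k k' K']; exact Q.2.1 _, Q.2.2⟩

/-- A place over `k` as a place over the larger constants. -/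
def ofBase (Q : FunFld.Place k K') : FunFld.Place k' K' :=
  ⟨Q.1, fun c => by
    by_contra h
    have h0 : algebraMap k' K' c ≠ 0 := fun h0 => h (by rw [h0, map_zero]; exact zero_le)
    exact transcendental_of_val_ne_one Q h0 (fun h1 => h h1.le)
      ((IsIntegral.of_finite k c).isAlgebraic.algebraMap), Q.2.2⟩

theorem deg_toBase (Q : FunFld.Place k' K') : (toBase (k := k) Q).deg = Module.finrank k k' * Q.deg := by
  let a1 : Algebra k (IsLocalRing.ResidueField Q.O) := FunFld.Place.algRes (toBase (k := k) Q)
  let a2 : Algebra k' (IsLocalRing.ResidueField Q.O) := FunFld.Place.algRes Q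
  have tower : @IsScalarTower k k' (IsLocalRing.ResidueField Q.O) _
      a2.toModule.toSMul a1.toModule.toSMul :=
    @IsScalarTower.of_algebraMap_eq k k' (IsLocalRing.ResidueField Q.O) _ _ _ _ a2 a1 fun c => by
      change IsLocalRing.residue Q.O ⟨algebraMap k K' c, _⟩ = IsLocalRing.residue Q.O ⟨algebraMap k' K' (algebraMap k k' c), _⟩
      congr 1
      exact Subtype.ext (IsScalarTower.algebraMap_apply k k' K' c)
  exact (@Module.finrank_mul_finrank k k' (IsLocalRing.ResidueField Q.O) _ _ _ _ a2.toModule
    a1.toModule tower _ _ _ (@Module.Free.of_divisionRing _ _ _ _ a2.toModule)).symm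

variable [Finite k] [Finite k'] (hK : FunFld.IsFunctionField k K) (hce : FunFld.IsConstExt k K k' K')
include hK hce

theorem finiteDimensional_ext : FiniteDimensional K K' :=
  Module.finite_of_finrank_pos (by rw [hce.2.2]; exact Module.finrank_pos)

/-- A constant extension is a function field over the larger constants. -/
theorem isFunctionField_ext : FunFld.IsFunctionField k' K' := by
  haveI := finiteDimensional_ext hK hce
  refine ⟨?_, ?_⟩
  · obtain ⟨x, hx, hfin⟩ := hK.1
    obtain ⟨y, hy, hyfin⟩ := isFF_extension (K' := K') hK.1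
    refine ⟨y, fun halg => hy ?_, ?_⟩
    · haveI : Algebra.IsAlgebraic k (k') := Algebra.IsAlgebraic.of_finite k _
      exact halg.restrictScalars k
    · let Ek := IntermediateField.adjoin k ({y} : Set K')
      let Ek' := IntermediateField.adjoin k' ({y} : Set K')
      have hle : ∀ z ∈ Ek, z ∈ Ek' := by
        intro z hz
        induction hz using IntermediateField.adjoin_induction with
        | mem v hv => exact IntermediateField.subset_adjoin k' _ hv
        | algebraMap c => rw [IsScalarTower.algebraMap_apply k k' K']; exact Ek'.algebraMap_mem _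
        | add u v _ _ hu hv => exact Ek'.add_mem hu hv
        | inv u _ hu => exact Ek'.inv_mem hu
        | mul u v _ _ hu hv => exact Ek'.mul_mem hu hv
      letI : Algebra Ek Ek' := ((algebraMap Ek K').codRestrict Ek' fun z => hle z.1 z.2).toAlgebra
      haveI : IsScalarTower Ek Ek' (K') := IsScalarTower.of_algebraMap_eq fun _ => rfl
      haveI : FiniteDimensional Ek (K') := hyfin
      exact Module.Finite.of_restrictScalars_finite Ek Ek' (K')
  · intro y hy
    haveI : Algebra.IsAlgebraic k (k') := Algebra.IsAlgebraic.of_finite k _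
    have hy' : IsIntegral (k') y := hy.isIntegral
    let E := IntermediateField.adjoin (k') ({y} : Set (K'))
    haveI : FiniteDimensional (k') E := IntermediateField.adjoin.finiteDimensional hy'
    haveI : FiniteDimensional k E := Module.Finite.trans (k') E
    haveI : Finite E := Module.finite_of_finite k
    obtain ⟨η, hη⟩ := Field.exists_primitive_element k E
    have hint : IsIntegral k η := IsIntegral.of_finite k η
    have hdegη : (minpoly k η).natDegree = Module.finrank k E := by
      rw [← IntermediateField.adjoin.finrank hint, hη, IntermediateField.finrank_top']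
    have hirr := irreducible_map hK.2 (minpoly.irreducible hint) (minpoly.monic hint)
    have hroot : Polynomial.aeval (η : K') ((minpoly k η).map (algebraMap k K)) = 0 := by
      rw [Polynomial.aeval_map_algebraMap,
        show (η : K') = (E.val.restrictScalars k) η from rfl, Polynomial.aeval_algHom_apply,
        minpoly.aeval, map_zero]
    have hmin := minpoly.eq_of_irreducible_of_monic hirr hroot ((minpoly.monic hint).map _)
    have hle := minpoly.natDegree_le (A := K) (η : K')
    rw [← hmin, Polynomial.natDegree_map, hdegη, hce.2.2] at hle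
    have hmul := Module.finrank_mul_finrank k (k') E
    have h1 : 0 < Module.finrank (k') E := Module.finrank_pos
    have hone : Module.finrank (k') E = 1 := by
      have hk : 0 < Module.finrank k k' := Module.finrank_pos
      exact le_antisymm (Nat.le_of_mul_le_mul_left (by rw [mul_one, hmul]; exact hle) hk) h1
    have hbot := IntermediateField.finrank_eq_one_iff.1 hone
    have hyE : y ∈ E := IntermediateField.mem_adjoin_simple_self _ _
    rw [hbot, IntermediateField.mem_bot] at hyE
    exact hyE

theorem adjoin_gen {θ : k'} (hθ : IntermediateField.adjoin k ({θ} : Set k') = ⊤) :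
    Algebra.adjoin K ({algebraMap k' K' θ} : Set K') = ⊤ := by
  rw [eq_top_iff, ← hce.2.1]
  refine Algebra.adjoin_le ?_
  rintro _ ⟨c, rfl⟩
  have hc : c ∈ Algebra.adjoin k ({θ} : Set k') := by
    rw [← IntermediateField.adjoin_simple_toSubalgebra_of_isAlgebraic (IsIntegral.of_finite k θ).isAlgebraic, hθ]
    exact IntermediateField.mem_top
  induction hc using Algebra.adjoin_induction with
  | mem v hv => rw [Set.mem_singleton_iff.1 hv]; exact Algebra.subset_adjoin rfl
  | algebraMap r => rw [← hce.1]; exact Subalgebra.algebraMap_mem _ _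
  | add x y _ _ hx hy => rw [map_add]; exact add_mem hx hy
  | mul x y _ _ hx hy => rw [map_mul]; exact mul_mem hx hy

theorem isGalois_ext : IsGalois K K' := by
  haveI := finiteDimensional_ext hK hce
  obtain ⟨θ, hθ⟩ := Field.exists_primitive_element k k'
  have hint : IsIntegral k θ := IsIntegral.of_finite k θ
  set p := (minpoly k θ).map (algebraMap k K)
  have hcomp : (algebraMap K K').comp (algebraMap k K) = (algebraMap k' K').comp (algebraMap k k') := by
    ext c; exact hce.1 c
  haveI : IsSplittingField K K' p := by
    refine ⟨?_, ?_⟩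
    · rw [Polynomial.map_map, hcomp, ← Polynomial.map_map]
      exact (Normal.splits (inferInstance : Normal k k') θ).map _
    · rw [eq_top_iff, ← adjoin_gen hK hce hθ]
      refine Algebra.adjoin_mono (Set.singleton_subset_iff.2 ?_)
      rw [Polynomial.mem_rootSet]
      refine ⟨Polynomial.map_ne_zero (minpoly.ne_zero hint), ?_⟩
      rw [Polynomial.aeval_def, Polynomial.eval₂_map, hcomp, ← Polynomial.hom_eval₂, ← Polynomial.aeval_def,
        minpoly.aeval, map_zero]
  exact IsGalois.of_separable_splitting_field (p := p) (Polynomial.Separable.map (Algebra.IsSeparable.isSeparable k θ))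

/-- The degree of a place over the constant extension is a multiple of both degrees. -/
theorem lcm_dvd_deg {P : FunFld.Place k K} {Q : FunFld.Place k' K'}
    (h : FunFld.IsOver (toBase (k := k) Q) P) :
    Nat.lcm P.deg (Module.finrank k k') ∣ (toBase (k := k) Q).deg := by
  refine Nat.lcm_dvd ?_ ⟨Q.deg, deg_toBase Q⟩
  set R := toBase (k := k) Q
  haveI := finiteDimensional_ext hK hce
  let j : P.O →+* R.O :=
    ((algebraMap K K').comp P.O.subtype).codRestrict R.O fun x => (le_one_iff_of_isOver h (x : K)).2 x.2
  haveI : IsLocalHom j := by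
    refine ⟨fun x hx => ?_⟩
    obtain ⟨e, he⟩ := h
    have h1 : R.1 (algebraMap K K' (x : K)) = 1 :=
      (Valuation.Integers.isUnit_iff_valuation_eq_one (Valuation.integer.integers R.1)).1 hx
    rw [he] at h1
    replace h1 := (pow_eq_one_iff.1 h1).resolve_right (IsOverWith.pos he).ne'
    exact (Valuation.Integers.isUnit_iff_valuation_eq_one (Valuation.integer.integers P.1)).2 h1
  let a1 : Algebra k (IsLocalRing.ResidueField R.O) := FunFld.Place.algRes R
  let a0 : Algebra k (IsLocalRing.ResidueField P.O) := FunFld.Place.algRes P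
  let a2 : Algebra (IsLocalRing.ResidueField P.O) (IsLocalRing.ResidueField R.O) :=
    (IsLocalRing.ResidueField.map j).toAlgebra
  have tower : @IsScalarTower k (IsLocalRing.ResidueField P.O) (IsLocalRing.ResidueField R.O)
      a0.toModule.toSMul a2.toModule.toSMul a1.toModule.toSMul :=
    @IsScalarTower.of_algebraMap_eq k (IsLocalRing.ResidueField P.O) (IsLocalRing.ResidueField R.O) _ _ _ a0 a2 a1 fun c => by
      change IsLocalRing.residue R.O (algebraMap k R.O c) =
        IsLocalRing.ResidueField.map j (IsLocalRing.residue P.O (algebraMap k P.O c))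
      rw [IsLocalRing.ResidueField.map_residue]
      congr 1
      exact Subtype.ext (IsScalarTower.algebraMap_apply k K K' c)
  exact ⟨_, (@Module.finrank_mul_finrank k (IsLocalRing.ResidueField P.O) (IsLocalRing.ResidueField R.O) _ _ _
    a0.toModule a2.toModule a1.toModule tower _ _ (@Module.Free.of_divisionRing _ _ _ _ a0.toModule)
    (@Module.Free.of_divisionRing _ _ _ _ a2.toModule)).symm⟩

/-- The decomposition group is small. -/
theorem card_decomposition_le {P : FunFld.Place k K} {Q : FunFld.Place k' K'}
    (h : FunFld.IsOver (toBase (k := k) Q) P) :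
    Nat.card ((toBase (k := k) Q).O.decompositionSubgroup K) * Nat.gcd P.deg (Module.finrank k k') ≤
      Module.finrank k k' := by
  classical
  haveI := finiteDimensional_ext hK hce
  set R := toBase (k := k) Q
  set g := Nat.gcd P.deg (Module.finrank k k')
  -- the subfield of degree `g`
  obtain ⟨F, hF, hFroot⟩ : ∃ F : IntermediateField k k', Module.finrank k F = g ∧
      ∀ c ∈ F, c ^ Nat.card k ^ g = c := by
    obtain ⟨p, hp⟩ := CharP.exists k
    haveI : Fact p.Prime := ⟨CharP.char_is_prime k p⟩
    haveI : NeZero g := ⟨(Nat.gcd_pos_of_pos_right _ Module.finrank_pos).ne'⟩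
    obtain ⟨φ⟩ := FiniteField.nonempty_algHom_of_finrank_dvd (F := k) (K := FiniteField.Extension k p g) (L := k')
      (by rw [FiniteField.finrank_extension]; exact Nat.gcd_dvd_right _ _)
    have hF : Module.finrank k φ.fieldRange = g :=
      (AlgEquiv.ofInjectiveField φ).toLinearEquiv.finrank_eq.symm.trans (FiniteField.finrank_extension k p g)
    refine ⟨φ.fieldRange, hF, ?_⟩
    rintro _ ⟨a, rfl⟩
    haveI : Fintype (FiniteField.Extension k p g) := Fintype.ofFinite _
    have h1 := FiniteField.pow_card a
    rw [← Nat.card_eq_fintype_card, FiniteField.natCard_extension] at h1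
    exact (map_pow φ a _).symm.trans (congrArg φ h1)
  obtain ⟨θ, hθ⟩ := Field.exists_primitive_element k k'
  have hFfix : ∀ σ ∈ R.O.decompositionSubgroup K, ∀ c ∈ F, σ (algebraMap k' K' c) = algebraMap k' K' c := by
    intro σ hσ c hc
    have hconj : conj σ R = R := mem_decomposition.1 hσ
    set w := algebraMap k' K' c
    have hw : R.1 w ≤ 1 := Q.2.1 c
    haveI hfin := finiteDimensional_residueField hK P
    haveI : Finite (IsLocalRing.ResidueField P.O) := @Module.finite_of_finite k _ _ _ _ _ hfin
    haveI : Fintype (IsLocalRing.ResidueField P.O) := Fintype.ofFinite _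
    have hcard : ∀ r : IsLocalRing.ResidueField P.O, r ^ Nat.card k ^ P.deg = r := fun r => by
      have h1 := FiniteField.pow_card r
      rwa [← Nat.card_eq_fintype_card, @Module.natCard_eq_pow_finrank k _ _ _ _ hfin] at h1
    -- congruent to an element of `K`
    obtain ⟨z, hz, hzc⟩ : ∃ z : K, P.1 z ≤ 1 ∧ R.1 (w - algebraMap K K' z) < 1 := by
      let j : P.O →+* R.O :=
        ((algebraMap K K').comp P.O.subtype).codRestrict R.O fun x => (le_one_iff_of_isOver h (x : K)).2 x.2
      by_contra hno
      push Not at hno
      have hall : ∀ x : P.O, IsLocalRing.residue R.O ⟨w, hw⟩ ≠ IsLocalRing.residue R.O (j x) := fun x e => by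
        rw [← sub_eq_zero, ← map_sub, IsLocalRing.residue_eq_zero_iff, IsLocalRing.mem_maximalIdeal, mem_nonunits_iff] at e
        refine e ((Valuation.Integers.isUnit_iff_valuation_eq_one (Valuation.integer.integers R.1)).2 ?_)
        refine le_antisymm ?_ (hno (x : K) x.2)
        exact R.1.map_sub_le hw (j x).2
      haveI : IsLocalHom j := by
        refine ⟨fun x hx => ?_⟩
        obtain ⟨e, he⟩ := h
        have h1 : R.1 (algebraMap K K' (x : K)) = 1 :=
          (Valuation.Integers.isUnit_iff_valuation_eq_one (Valuation.integer.integers R.1)).1 hx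
        rw [he] at h1
        replace h1 := (pow_eq_one_iff.1 h1).resolve_right (IsOverWith.pos he).ne'
        exact (Valuation.Integers.isUnit_iff_valuation_eq_one (Valuation.integer.integers P.1)).2 h1
      let ψ := IsLocalRing.ResidueField.map j
      -- roots of `X ^ (q ^ d) - X`
      set N := Nat.card k ^ P.deg
      have hN : 1 < N := Nat.one_lt_pow (deg_pos hK P).ne' Finite.one_lt_card
      set r := IsLocalRing.residue R.O ⟨w, hw⟩
      have hr : r ^ N = r := by
        have hcN : c ^ N = c := by
          obtain ⟨m, hm⟩ := Nat.gcd_dvd_left P.deg (Module.finrank k k')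
          have hit : ∀ i : ℕ, c ^ Nat.card k ^ (g * i) = c := fun i => by
            induction i with
            | zero => simp
            | succ i ih => rw [Nat.mul_succ, pow_add, pow_mul, ih, hFroot c hc]
          rw [show N = Nat.card k ^ (g * m) by simp only [N, g, ← hm]]
          exact hit m
        rw [← map_pow]
        congr 1
        exact Subtype.ext (by push_cast; rw [← map_pow, hcN])
      have hsub : (Finset.univ.image ψ) ⊆ ((Polynomial.X ^ N - Polynomial.X : (IsLocalRing.ResidueField R.O)[X]).roots.toFinset) := by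
        intro a ha
        obtain ⟨b, -, rfl⟩ := Finset.mem_image.1 ha
        rw [Multiset.mem_toFinset, Polynomial.mem_roots (FiniteField.X_pow_card_sub_X_ne_zero _ hN)]
        simp only [Polynomial.IsRoot.def, Polynomial.eval_sub, Polynomial.eval_pow, Polynomial.eval_X]
        rw [← map_pow, hcard, sub_self]
      have heq := Finset.eq_of_subset_of_card_le hsub (by
        rw [Finset.card_image_of_injective _ ψ.injective, Finset.card_univ, ← Nat.card_eq_fintype_card,
          @Module.natCard_eq_pow_finrank k _ _ _ _ hfin]
        exact (Multiset.toFinset_card_le _).trans ((Polynomial.card_roots' _).trans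
          (FiniteField.X_pow_card_sub_X_natDegree_eq _ hN).le))
      have hmem : r ∈ Finset.univ.image ψ := by
        rw [heq, Multiset.mem_toFinset, Polynomial.mem_roots (FiniteField.X_pow_card_sub_X_ne_zero _ hN)]
        simp [hr]
      obtain ⟨b, -, hb⟩ := Finset.mem_image.1 hmem
      obtain ⟨x, rfl⟩ := IsLocalRing.residue_surjective b
      exact hall x (hb.symm.trans (IsLocalRing.ResidueField.map_residue j x))
    have h1 : R.1 (σ w - algebraMap K K' z) < 1 := by
      have : (conj σ R).1 (w - algebraMap K K' z) < 1 := by rw [hconj]; exact hzc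
      rwa [conj_apply, map_sub, σ.commutes] at this
    have h2 : R.1 (σ w - w) < 1 := by
      have := (R.1.map_sub _ _).trans_lt (max_lt h1 hzc)
      rwa [sub_sub_sub_cancel_right] at this
    -- distinct roots stay distinct at `R`
    have hintc : IsIntegral k c := IsIntegral.of_finite k c
    have hσroot : ∃ c' : k', σ w = algebraMap k' K' c' := by
      have hsplit := Normal.splits (inferInstance : Normal k k') c
      have h0 : Polynomial.eval₂ (algebraMap k' K') (σ w) ((minpoly k c).map (algebraMap k k')) = 0 := by
        rw [Polynomial.eval₂_map, ← IsScalarTower.algebraMap_eq, ← Polynomial.aeval_def,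
          show σ w = (σ.toAlgHom.restrictScalars k) w from rfl, Polynomial.aeval_algHom_apply,
          Polynomial.aeval_algebraMap_apply, minpoly.aeval, map_zero, map_zero]
      rw [hsplit.eq_prod_roots_of_monic ((minpoly.monic hintc).map _), Polynomial.eval₂_multiset_prod,
        Multiset.prod_eq_zero_iff, Multiset.map_map, Multiset.mem_map] at h0
      obtain ⟨c', -, hc'⟩ := h0
      exact ⟨c', by simpa [sub_eq_zero] using hc'⟩
    obtain ⟨c', hc'⟩ := hσroot
    rw [hc', ← map_sub] at h2
    by_contra hne
    have hcc : c' - c ≠ 0 := fun e => hne (by rw [hc', sub_eq_zero.1 e])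
    exact h2.ne (val_const Q hcc)
  -- count
  have hint : IsIntegral F θ := IsIntegral.of_finite F θ
  set m := (minpoly F θ).map ((algebraMap k' K').comp (algebraMap F k'))
  have hm : m ≠ 0 := Polynomial.map_ne_zero (minpoly.ne_zero hint)
  let f : R.O.decompositionSubgroup K → m.roots.toFinset := fun σ => ⟨σ.1 (algebraMap k' K' θ), by
    rw [Multiset.mem_toFinset, Polynomial.mem_roots hm, Polynomial.IsRoot.def, Polynomial.eval_map]
    have e : (algebraMap k' K').comp (algebraMap F k') =
        (σ.1.toRingEquiv.toRingHom.comp (algebraMap k' K')).comp (algebraMap F k') :=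
      RingHom.ext fun a => (hFfix σ.1 σ.2 _ a.2).symm
    rw [e, RingHom.comp_assoc, show σ.1 (algebraMap k' K' θ) = σ.1.toRingEquiv.toRingHom (algebraMap k' K' θ) from rfl,
      ← Polynomial.hom_eval₂, ← Polynomial.hom_eval₂, ← Polynomial.aeval_def, minpoly.aeval, map_zero, map_zero]⟩
  have hf : Function.Injective f := fun σ τ e => Subtype.ext (AlgEquiv.coe_toAlgHom_injective (by
    refine AlgHom.ext_of_adjoin_eq_top (adjoin_gen hK hce hθ) ?_
    rintro _ rfl
    exact congrArg Subtype.val e))
  have h1 := Nat.card_le_card_of_injective f hf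
  rw [Nat.card_eq_fintype_card (α := m.roots.toFinset), Fintype.card_coe] at h1
  have h2 : Nat.card (R.O.decompositionSubgroup K) ≤ (minpoly F θ).natDegree := by
    refine (h1.trans (Multiset.toFinset_card_le _)).trans ?_
    rw [← Polynomial.natDegree_map (f := (algebraMap k' K').comp (algebraMap F k')) (p := minpoly F θ)]
    exact Polynomial.card_roots' m
  have h3 : (minpoly F θ).natDegree ≤ Module.finrank F k' := minpoly.natDegree_le θ
  calc _ ≤ Module.finrank F k' * g := Nat.mul_le_mul_right g (h2.trans h3)
    _ = Module.finrank k k' := by rw [← hF, mul_comm, Module.finrank_mul_finrank]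

/-- The places over a place in a constant extension. -/
theorem places_over (hK' : FunFld.IsFunctionField k' K') (P : FunFld.Place k K) :
    Nat.card {Q : FunFld.Place k' K' // FunFld.IsOver (toBase (k := k) Q) P} = Nat.gcd P.deg (Module.finrank k k') ∧
      ∀ Q : FunFld.Place k' K', FunFld.IsOver (toBase (k := k) Q) P →
        Q.deg * Nat.gcd P.deg (Module.finrank k k') = P.deg := by
  classical
  haveI := finiteDimensional_ext hK hce
  haveI := isGalois_ext hK hce
  set n := Module.finrank k k'
  have hn : 0 < n := Module.finrank_pos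
  have hd : 0 < P.deg := deg_pos hK P
  set g := Nat.gcd P.deg n
  have hg : 0 < g := Nat.gcd_pos_of_pos_right _ hn
  set S := (finite_isOver (K' := K') hK P).toFinset
  have hS : ∀ R, R ∈ S ↔ FunFld.IsOver R P := fun R => Set.Finite.mem_toFinset _
  have hcard : Nat.card {Q : FunFld.Place k' K' // FunFld.IsOver (toBase (k := k) Q) P} = S.card := by
    rw [← Nat.card_eq_finsetCard]
    exact Nat.card_congr
      { toFun := fun Q => ⟨toBase (k := k) Q.1, (hS _).2 Q.2⟩
        invFun := fun R => ⟨ofBase R.1, (hS _).1 R.2⟩
        left_inv := fun Q => rfl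
        right_inv := fun R => rfl }
  rw [hcard]
  obtain ⟨R₀, hR₀⟩ := exists_above (K' := K') hK P
  have hlow : g ≤ S.card := by
    have h1 := card_decomposition_le hK hce (Q := ofBase R₀) hR₀
    have h2 := card_places_mul_card_decomposition hR₀
    rw [Nat.card_congr (Equiv.subtypeEquivRight fun R => (hS R).symm), Nat.card_eq_finsetCard, hce.2.2] at h2
    change _ = n at h2
    change Nat.card (R₀.O.decompositionSubgroup K) * g ≤ n at h1
    nlinarith [Nat.pos_of_ne_zero fun h0 : Nat.card (R₀.O.decompositionSubgroup K) = 0 => by rw [h0, mul_zero] at h2; omega]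
  have hsum := sum_ramIdx_mul_deg (K' := K') hK P S hS
  rw [hce.2.2] at hsum
  change _ = n * P.deg at hsum
  have hterm : ∀ R ∈ S, Nat.lcm P.deg n ≤ FunFld.ramIdx R P * R.deg ∧ Nat.lcm P.deg n ≤ R.deg ∧ Nat.lcm P.deg n ∣ R.deg ∧ 1 ≤ FunFld.ramIdx R P := by
    intro R hR
    obtain ⟨e, he⟩ := (hS R).1 hR
    have h1 := lcm_dvd_deg hK hce (Q := ofBase R) ⟨e, he⟩
    have h2 : 0 < R.deg := by
      have := deg_toBase (k := k) (ofBase (k' := k') R)
      have h3 := deg_pos hK' (ofBase (k' := k') R)
      change R.deg = _ at this
      rw [this]; positivity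
    change Nat.lcm P.deg n ∣ R.deg at h1
    have hle := Nat.le_of_dvd h2 h1
    rw [ramIdx_eq he]
    exact ⟨hle.trans (Nat.le_mul_of_pos_left _ (IsOverWith.pos he)), hle, h1, IsOverWith.pos he⟩
  have hgl : g * Nat.lcm P.deg n = n * P.deg := by rw [Nat.gcd_mul_lcm, mul_comm]
  have hlcm : 0 < Nat.lcm P.deg n := Nat.lcm_pos hd hn
  have h3 : S.card * Nat.lcm P.deg n ≤ n * P.deg := by
    rw [← hsum, ← smul_eq_mul, ← Finset.sum_const]
    exact Finset.sum_le_sum fun R hR => (hterm R hR).1
  have hr : S.card = g := le_antisymm (Nat.le_of_mul_le_mul_right (h3.trans hgl.ge) hlcm) hlow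
  refine ⟨hr, fun Q hQ => ?_⟩
  have hQS : toBase (k := k) Q ∈ S := (hS _).2 hQ
  have heq : ∀ R ∈ S, Nat.lcm P.deg n = FunFld.ramIdx R P * R.deg := by
    refine (Finset.sum_eq_sum_iff_of_le fun R hR => (hterm R hR).1).1 ?_
    rw [hsum, Finset.sum_const, smul_eq_mul, hr, hgl]
  obtain ⟨-, h4, -, h5⟩ := hterm _ hQS
  have h6 := heq _ hQS
  have h7 : (toBase (k := k) Q).deg = Nat.lcm P.deg n :=
    le_antisymm ((Nat.le_mul_of_pos_left _ h5).trans h6.ge) h4
  rw [deg_toBase] at h7
  change n * Q.deg = _ at h7
  apply Nat.eq_of_mul_eq_mul_left hn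
  rw [← mul_assoc, h7, mul_comm (Nat.lcm _ _) g, hgl]

end Over

universe u v

/-- A constant extension of every degree. -/
theorem exists_constExt {k : Type u} {K : Type v} [Field k] [Finite k] [Field K] [Algebra k K]
    (hK : FunFld.IsFunctionField k K) (n : ℕ) (hn : 0 < n) :
    ∃ (k' : Type u) (K' : Type v) (_ : Field k') (_ : Finite k') (_ : Field K') (_ : Algebra k k')
      (_ : Algebra K K') (_ : Algebra k' K') (_ : Algebra k K') (_ : IsScalarTower k K K') (_ : IsScalarTower k k' K'),
      FunFld.IsFunctionField k' K' ∧ FunFld.IsConstExt k K k' K' ∧ Module.finrank k k' = n := by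
  classical
  obtain ⟨f, hf, hm, hdeg⟩ : ∃ f : k[X], Irreducible f ∧ f.Monic ∧ f.natDegree = n := by
    obtain ⟨p, hp⟩ := CharP.exists k
    haveI : Fact p.Prime := ⟨CharP.char_is_prime k p⟩
    haveI : NeZero n := ⟨hn.ne'⟩
    let E := FiniteField.Extension k p n
    obtain ⟨θ, hθ⟩ := Field.exists_primitive_element k E
    have hint : IsIntegral k θ := IsIntegral.of_finite k θ
    refine ⟨minpoly k θ, minpoly.irreducible hint, minpoly.monic hint, ?_⟩
    rw [← IntermediateField.adjoin.finrank hint, hθ, IntermediateField.finrank_top',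
      FiniteField.finrank_extension k p n]
  set fK := f.map (algebraMap k K)
  haveI : Fact (Irreducible f) := ⟨hf⟩
  haveI : Fact (Irreducible fK) := ⟨irreducible_map hK.2 hf hm⟩
  let ι : AdjoinRoot f →ₐ[k] AdjoinRoot fK :=
    AdjoinRoot.liftAlgHom f (Algebra.ofId k (AdjoinRoot fK)) (AdjoinRoot.root fK) (by
      change f.eval₂ (algebraMap k (AdjoinRoot fK)) (AdjoinRoot.root fK) = 0
      have h := AdjoinRoot.eval₂_root fK
      rw [Polynomial.eval₂_map] at h
      exact h)
  letI : Algebra (AdjoinRoot f) (AdjoinRoot fK) := ι.toRingHom.toAlgebra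
  haveI htower : IsScalarTower k (AdjoinRoot f) (AdjoinRoot fK) :=
    IsScalarTower.of_algebraMap_eq fun c => (ι.commutes c).symm
  haveI : Finite (AdjoinRoot f) := by
    haveI := (AdjoinRoot.powerBasis hf.ne_zero).finite
    exact Module.finite_of_finite k
  haveI := (AdjoinRoot.powerBasis hf.ne_zero).finite
  haveI hfinK := (AdjoinRoot.powerBasis (irreducible_map hK.2 hf hm).ne_zero).finite
  have hnk : Module.finrank k (AdjoinRoot f) = n := by
    rw [(AdjoinRoot.powerBasis hf.ne_zero).finrank, AdjoinRoot.powerBasis_dim, hdeg]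
  have hnK : Module.finrank K (AdjoinRoot fK) = n := by
    rw [(AdjoinRoot.powerBasis (irreducible_map hK.2 hf hm).ne_zero).finrank, AdjoinRoot.powerBasis_dim,
      Polynomial.natDegree_map, hdeg]
  have hce : FunFld.IsConstExt k K (AdjoinRoot f) (AdjoinRoot fK) := by
    refine ⟨fun c => ?_, ?_, ?_⟩
    · rw [← IsScalarTower.algebraMap_apply, ← IsScalarTower.algebraMap_apply]
    · rw [eq_top_iff, ← AdjoinRoot.adjoinRoot_eq_top]
      refine Algebra.adjoin_mono (Set.singleton_subset_iff.2 ⟨AdjoinRoot.root f, ?_⟩)
      exact AdjoinRoot.liftAlgHom_root ..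
    · rw [hnK, hnk]
  exact ⟨AdjoinRoot f, AdjoinRoot fK, inferInstance, inferInstance, inferInstance, inferInstance, inferInstance,
    inferInstance, inferInstance, inferInstance, htower, isFunctionField_ext hK hce, hce, hnk⟩


end Groth.Agent.H23Zeta
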