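import Mathlib
import Groth.Agent.H23Zeta.Count

/-!
The zeta series through the divisor classes.
-/

set_option autoImplicit false
set_option linter.unusedSectionVars false
set_option linter.style.haveILetI false

namespace Groth.Agent.H23Zeta

open Groth.Agent.H23FunFld

variable {k K : Type*} [Field k] [Field K] [Algebra k K]

/-- Divisor classes. -/
abbrev Pic (k K : Type*) [Field k] [Field K] [Algebra k K] : Type _ := FunFld.Divisor k K ⧸ FunFld.prinDivs k K

/-- The degree of a representative of a class. -/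
noncomputable def degC (c : Pic k K) : ℤ := (Quotient.out c).deg

/-- The dimension of a representative of a class. -/
noncomputable def ellC (c : Pic k K) : ℕ := FunFld.ell (Quotient.out c)

/-- The classes of degree `n`. -/
abbrev Cl (k K : Type*) [Field k] [Field K] [Algebra k K] (n : ℤ) : Type _ := {c : Pic k K // degC c = n}

/-- The effective divisors of degree `n`. -/
abbrev Eff (k K : Type*) [Field k] [Field K] [Algebra k K] (n : ℤ) : Type _ :=
  {D : FunFld.Divisor k K // 0 ≤ D ∧ D.deg = n}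

theorem eff_natCast (n : ℕ) : Nat.card (Eff k K (n : ℤ)) = FunFld.effDivCount k K n := rfl

theorem card_eff_neg {n : ℤ} (hn : n < 0) : Nat.card (Eff k K n) = 0 := by
  have : IsEmpty (Eff k K n) := ⟨fun D => by
    have := deg_nonneg D.2.1
    rw [D.2.2] at this
    omega⟩
  exact Nat.card_of_isEmpty

variable (hK : FunFld.IsFunctionField k K)
include hK

theorem degC_mk (D : FunFld.Divisor k K) : degC (QuotientAddGroup.mk D : Pic k K) = D.deg := by
  obtain ⟨x, -, hx⟩ := (mk_eq_mk_iff hK).1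
    (Quotient.out_eq (QuotientAddGroup.mk D : Pic k K)).symm
  rw [degC, hx, deg_add, deg_div hK, add_zero]

theorem ellC_mk (D : FunFld.Divisor k K) : ellC (QuotientAddGroup.mk D : Pic k K) = FunFld.ell D := by
  obtain ⟨x, hx0, hx⟩ := (mk_eq_mk_iff hK).1
    (Quotient.out_eq (QuotientAddGroup.mk D : Pic k K)).symm
  rw [ellC, hx, ell_eq_of_eq_add_div hK hx0]

theorem degC_add (c d : Pic k K) : degC (c + d) = degC c + degC d := by
  obtain ⟨D, rfl⟩ := QuotientAddGroup.mk_surjective c
  obtain ⟨E, rfl⟩ := QuotientAddGroup.mk_surjective d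
  rw [← QuotientAddGroup.mk_add, degC_mk hK, degC_mk hK, degC_mk hK, deg_add]

theorem degC_neg (c : Pic k K) : degC (-c) = -degC c := by
  obtain ⟨D, rfl⟩ := QuotientAddGroup.mk_surjective c
  rw [← QuotientAddGroup.mk_neg, degC_mk hK, degC_mk hK, deg_neg]

/-- Translation of classes. -/
noncomputable def shift (D : FunFld.Divisor k K) (n m : ℤ) (h : m = n + D.deg) : Cl k K n ≃ Cl k K m where
  toFun c := ⟨c.1 + QuotientAddGroup.mk D, by rw [degC_add hK, c.2, degC_mk hK, h]⟩
  invFun c := ⟨c.1 + -QuotientAddGroup.mk D, by rw [degC_add hK, degC_neg hK, c.2, degC_mk hK, h]; ring⟩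
  left_inv c := Subtype.ext (add_neg_cancel_right _ _)
  right_inv c := Subtype.ext (neg_add_cancel_right _ _)

theorem card_Cl_zero : Nat.card (Cl k K 0) = FunFld.classNum k K := by
  symm
  let f : (FunFld.degHom k K).ker → Cl k K 0 := fun D => ⟨QuotientAddGroup.mk D.1, by
    rw [degC_mk hK, ← degHom_eq]; exact D.2⟩
  refine Nat.card_eq_of_bijective (fun q => Quotient.liftOn' q f fun a b hab => Subtype.ext ?_) ⟨?_, ?_⟩
  · exact QuotientAddGroup.eq.2 (by simpa [QuotientAddGroup.leftRel_apply, AddSubgroup.mem_addSubgroupOf] using hab)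
  · intro a b
    induction a using Quotient.inductionOn' with | _ a =>
    induction b using Quotient.inductionOn' with | _ b =>
    intro hab
    refine Quotient.sound' ?_
    have h := QuotientAddGroup.eq.1 (congrArg Subtype.val hab : (QuotientAddGroup.mk a.1 : Pic k K) = _)
    simpa [QuotientAddGroup.leftRel_apply, AddSubgroup.mem_addSubgroupOf] using h
  · rintro ⟨c, hc⟩
    obtain ⟨D, rfl⟩ := QuotientAddGroup.mk_surjective c
    refine ⟨Quotient.mk'' ⟨D, ?_⟩, rfl⟩
    rw [AddMonoidHom.mem_ker, degHom_eq, ← degC_mk hK, hc]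

theorem card_Cl {n : ℤ} (h : ∃ D : FunFld.Divisor k K, D.deg = n) : Nat.card (Cl k K n) = FunFld.classNum k K := by
  obtain ⟨D, rfl⟩ := h
  rw [← card_Cl_zero hK]
  exact (Nat.card_congr (shift hK D 0 D.deg (by ring))).symm

variable [Finite k]

theorem finite_Cl (n : ℤ) : Finite (Cl k K n) := by
  obtain ⟨P⟩ := nonempty_place hK
  set N : ℤ := (FunFld.genus k K : ℤ) + n.natAbs
  have hd : (1 : ℤ) ≤ P.deg := by exact_mod_cast deg_pos hK P
  set E : FunFld.Divisor k K := Finsupp.single P N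
  have hE : (FunFld.genus k K : ℤ) ≤ n + E.deg := by
    rw [deg_single]
    have : (0 : ℤ) ≤ N := by positivity
    nlinarith [abs_nonneg n, neg_abs_le n, Int.natCast_natAbs n]
  haveI : Finite (Eff k K (n + E.deg)) := (finite_effective hK (n + E.deg)).to_subtype
  have key : ∀ c : Cl k K n, ∃ D : Eff k K (n + E.deg), (QuotientAddGroup.mk D.1 : Pic k K) = c.1 + QuotientAddGroup.mk E := by
    intro c
    obtain ⟨D, hD⟩ := QuotientAddGroup.mk_surjective (c.1 + QuotientAddGroup.mk E)
    have hdeg : D.deg = n + E.deg := by rw [← degC_mk hK, hD, degC_add hK, c.2, degC_mk hK]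
    have h1 := ell_ge hK D
    obtain ⟨x, hx, hx'⟩ := exists_effective hK (D := D) (by omega)
    exact ⟨⟨D + FunFld.div k x, hx', by rw [deg_add, deg_div hK, add_zero, hdeg]⟩,
      ((mk_eq_mk_iff hK).2 ⟨x, hx, rfl⟩).symm.trans hD⟩
  choose f hf using key
  exact Finite.of_injective f fun a b h => Subtype.ext (add_right_cancel ((hf a).symm.trans ((congrArg (fun D : Eff k K (n + E.deg) => (QuotientAddGroup.mk D.1 : Pic k K)) h).trans (hf b))))

theorem classNum_pos : 0 < FunFld.classNum k K := by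
  rw [← card_Cl_zero hK]
  haveI := finite_Cl hK 0
  haveI : Nonempty (Cl k K 0) := ⟨⟨QuotientAddGroup.mk 0, by rw [degC_mk hK, deg_zero]⟩⟩
  exact Nat.card_pos

/-- The sum of `q ^ ℓ` over the classes of degree `n`. -/
noncomputable def sumQ (k K : Type*) [Field k] [Field K] [Algebra k K] (n : ℤ) : ℚ :=
  ∑ᶠ c : Cl k K n, (Nat.card k : ℚ) ^ ellC c.1

theorem card_eff_eq (n : ℤ) :
    ((Nat.card k : ℚ) - 1) * (Nat.card (Eff k K n) : ℚ) = sumQ k K n - (Nat.card (Cl k K n) : ℚ) := by
  classical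
  haveI := finite_Cl hK n
  haveI : Fintype (Cl k K n) := Fintype.ofFinite _
  haveI : Finite (Eff k K n) := (finite_effective hK n).to_subtype
  let f : Eff k K n → Cl k K n := fun D => ⟨QuotientAddGroup.mk D.1, by rw [degC_mk hK, D.2.2]⟩
  haveI : ∀ c, Fintype {D : Eff k K n // f D = c} := fun c => Fintype.ofFinite _
  rw [← Nat.card_congr (Equiv.sigmaFiberEquiv f), Nat.card_eq_fintype_card (α := Σ c : Cl k K n, {D : Eff k K n // f D = c}), Fintype.card_sigma, sumQ,
    finsum_eq_sum_of_fintype, Nat.card_eq_fintype_card (α := Cl k K n)]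
  push_cast
  rw [Finset.mul_sum, show (Fintype.card (Cl k K n) : ℚ) = ∑ _c : Cl k K n, (1 : ℚ) by simp,
    ← Finset.sum_sub_distrib]
  refine Finset.sum_congr rfl fun c _ => ?_
  obtain ⟨D, hD⟩ := QuotientAddGroup.mk_surjective c.1
  have h := card_effective_class hK D
  have e : Nat.card {E : FunFld.Divisor k K // 0 ≤ E ∧
      (QuotientAddGroup.mk E : Pic k K) = QuotientAddGroup.mk D} = Nat.card {E : Eff k K n // f E = c} := by
    refine Nat.card_congr
      { toFun := fun E => ⟨⟨E.1, E.2.1, by rw [← degC_mk hK, E.2.2, hD, c.2]⟩, Subtype.ext (E.2.2.trans hD)⟩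
        invFun := fun E => ⟨E.1.1, E.1.2.1, (congrArg Subtype.val E.2).trans hD.symm⟩
        left_inv := fun E => rfl
        right_inv := fun E => rfl }
  rw [e, Nat.card_eq_fintype_card (α := {E : Eff k K n // f E = c})] at h
  rw [← hD, ellC_mk hK]
  exact_mod_cast h

theorem sumQ_symm (n : ℤ) :
    sumQ k K n = (Nat.card k : ℚ) ^ (n + 1 - (FunFld.genus k K : ℤ)) * sumQ k K (2 * FunFld.genus k K - 2 - n) := by
  classical
  obtain ⟨C, hC⟩ := exists_isCanonical hK
  obtain ⟨hlC, hdC⟩ := canonical_ell_deg hK hC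
  haveI := finite_Cl hK (2 * (FunFld.genus k K : ℤ) - 2 - n)
  haveI := finite_Cl hK n
  haveI : Fintype (Cl k K n) := Fintype.ofFinite _
  haveI : Fintype (Cl k K (2 * (FunFld.genus k K : ℤ) - 2 - n)) := Fintype.ofFinite _
  let e : Cl k K n ≃ Cl k K (2 * (FunFld.genus k K : ℤ) - 2 - n) :=
    { toFun := fun c => ⟨QuotientAddGroup.mk C + -c.1, by rw [degC_add hK, degC_neg hK, c.2, degC_mk hK, hdC]; ring⟩
      invFun := fun c => ⟨QuotientAddGroup.mk C + -c.1, by rw [degC_add hK, degC_neg hK, c.2, degC_mk hK, hdC]; ring⟩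
      left_inv := fun c => Subtype.ext (by simp)
      right_inv := fun c => Subtype.ext (by simp) }
  have hq : (Nat.card k : ℚ) ≠ 0 := Nat.cast_ne_zero.2 Nat.card_pos.ne'
  rw [sumQ, sumQ, finsum_eq_sum_of_fintype, finsum_eq_sum_of_fintype, Finset.mul_sum]
  refine Fintype.sum_equiv e _ _ fun c => ?_
  obtain ⟨D, hD⟩ := QuotientAddGroup.mk_surjective c.1
  have e1 : ellC (e c).1 = FunFld.ell (C - D) := by
    change ellC (QuotientAddGroup.mk C + -c.1) = _
    rw [← hD, ← QuotientAddGroup.mk_neg, ← QuotientAddGroup.mk_add, ellC_mk hK, sub_eq_add_neg]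
  have e2 : degC c.1 = D.deg := by rw [← hD, degC_mk hK]
  have h := riemann_roch hK hC D
  rw [e1, show ellC c.1 = FunFld.ell D by rw [← hD, ellC_mk hK], ← zpow_natCast, ← zpow_natCast, ← zpow_add₀ hq]
  congr 1
  rw [c.2] at e2
  omega

theorem sumQ_large {n : ℤ} (hn : 2 * (FunFld.genus k K : ℤ) - 1 ≤ n) :
    sumQ k K n = (Nat.card (Cl k K n) : ℚ) * (Nat.card k : ℚ) ^ (n + 1 - (FunFld.genus k K : ℤ)) := by
  haveI := finite_Cl hK n
  haveI : Fintype (Cl k K n) := Fintype.ofFinite _
  rw [sumQ, finsum_eq_sum_of_fintype, Finset.sum_congr rfl (g := fun _ => (Nat.card k : ℚ) ^ (n + 1 - (FunFld.genus k K : ℤ))),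
    Finset.sum_const, nsmul_eq_mul, Finset.card_univ, Nat.card_eq_fintype_card (α := Cl k K n)]
  intro c _
  obtain ⟨D, hD⟩ := QuotientAddGroup.mk_surjective c.1
  have e2 : D.deg = n := by rw [← degC_mk hK, hD, c.2]
  have h := ell_of_deg_large hK (D := D) (by omega)
  rw [← hD, ellC_mk hK, ← zpow_natCast, h, e2]

/-- The coefficients of the numerator. -/
theorem coeff_numerZ (i : ℕ) : (PowerSeries.coeff i (FunFld.numerZ k K) : ℤ) =
    (Nat.card (Eff k K (i : ℤ)) : ℤ) - ((Nat.card k : ℤ) + 1) * Nat.card (Eff k K ((i : ℤ) - 1)) +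
      (Nat.card k : ℤ) * Nat.card (Eff k K ((i : ℤ) - 2)) := by
  set q : ℤ := (Nat.card k : ℤ)
  set a : ℤ → ℤ := fun m => (Nat.card (Eff k K m) : ℤ)
  have hz : ∀ m : ℕ, PowerSeries.coeff m (FunFld.zetaZ k K) = a m := fun m => by
    simp [FunFld.zetaZ, a, eff_natCast]
  have hneg : ∀ m : ℤ, m < 0 → a m = 0 := fun m hm => by simp [a, card_eff_neg hm]
  have e : FunFld.numerZ k K = FunFld.zetaZ k K - PowerSeries.C (q + 1) * (PowerSeries.X * FunFld.zetaZ k K) +
      PowerSeries.C q * (PowerSeries.X * (PowerSeries.X * FunFld.zetaZ k K)) := by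
    rw [FunFld.numerZ, map_add, map_one]; ring
  rw [e, map_add, map_sub, PowerSeries.coeff_C_mul, PowerSeries.coeff_C_mul]
  change _ = a i - (q + 1) * a ((i : ℤ) - 1) + q * a ((i : ℤ) - 2)
  rcases i with _ | _ | i
  · simp [hneg, hz, PowerSeries.coeff_zero_X_mul]
  · simp [hneg, hz, PowerSeries.coeff_succ_X_mul, PowerSeries.coeff_zero_X_mul]
  · simp only [PowerSeries.coeff_succ_X_mul, hz]
    rw [show ((i + 1 + 1 : ℕ) : ℤ) - 1 = ((i + 1 : ℕ) : ℤ) by omega, show ((i + 1 + 1 : ℕ) : ℤ) - 2 = (i : ℤ) by omega]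

end Groth.Agent.H23Zeta
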