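import Mathlib
import Groth.Agent.H23Zeta.Series
import Groth.Agent.H23Zeta.ConstExt
import Groth.Agent.S11043

/-!
The Euler product of the zeta series and its behaviour under constant extensions.
-/

set_option autoImplicit false
set_option linter.unusedSectionVars false
set_option linter.style.haveILetI false

namespace Groth.Agent.H23Zeta

open Groth.Agent.H23FunFld Groth.Agent.H23Ext PowerSeries

variable {k K : Type*} [Field k] [Field K] [Algebra k K] [Finite k] (hK : FunFld.IsFunctionField k K)
include hK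

/-- The effective divisors of degree `n` supported in `S`. -/
noncomputable def countOn (S : Finset (FunFld.Place k K)) (n : ℤ) : ℕ :=
  Nat.card {D : FunFld.Divisor k K // 0 ≤ D ∧ D.deg = n ∧ D.support ⊆ S}

omit hK in
theorem countOn_neg (S : Finset (FunFld.Place k K)) {n : ℤ} (hn : n < 0) : countOn S n = 0 := by
  haveI : IsEmpty {D : FunFld.Divisor k K // 0 ≤ D ∧ D.deg = n ∧ D.support ⊆ S} := ⟨fun D => by
    have := deg_nonneg D.2.1
    rw [D.2.2.1] at this
    omega⟩
  exact Nat.card_of_isEmpty

theorem finite_countOn (S : Finset (FunFld.Place k K)) (n : ℤ) :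
    Finite {D : FunFld.Divisor k K // 0 ≤ D ∧ D.deg = n ∧ D.support ⊆ S} := by
  haveI : Finite (Eff k K n) := (finite_effective hK n).to_subtype
  exact Finite.of_injective (fun D => (⟨D.1, D.2.1, D.2.2.1⟩ : Eff k K n)) fun a b h =>
    Subtype.ext (congrArg (fun D : Eff k K n => D.1) h)

theorem countOn_insert [DecidableEq (FunFld.Place k K)] (S : Finset (FunFld.Place k K)) {P : FunFld.Place k K}
    (hP : P ∉ S) (n : ℤ) : countOn (insert P S) n = countOn S n + countOn (insert P S) (n - P.deg) := by
  classical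
  haveI := finite_countOn hK S n
  haveI := finite_countOn hK (insert P S) (n - P.deg)
  unfold countOn
  rw [← Nat.card_sum]
  refine Nat.card_congr
    { toFun := fun D => if h : D.1 P = 0 then
          Sum.inl ⟨D.1, D.2.1, D.2.2.1, fun Q hQ => (Finset.mem_insert.1 (D.2.2.2 hQ)).resolve_left
            fun e => Finsupp.mem_support_iff.1 hQ (e ▸ h)⟩
        else Sum.inr ⟨D.1 - Finsupp.single P 1, fun Q => ?_, by rw [deg_sub, D.2.2.1, deg_single, one_mul], fun Q hQ => ?_⟩
      invFun := Sum.elim (fun D => ⟨D.1, D.2.1, D.2.2.1, D.2.2.2.trans (Finset.subset_insert _ _)⟩)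
        (fun D => ⟨D.1 + Finsupp.single P 1, add_nonneg D.2.1 (Finsupp.single_nonneg.2 zero_le_one),
          by rw [deg_add, D.2.2.1, deg_single, one_mul, sub_add_cancel],
          Finsupp.support_add.trans (Finset.union_subset D.2.2.2
            (Finsupp.support_single_subset.trans (Finset.singleton_subset_iff.2 (Finset.mem_insert_self _ _))))⟩)
      left_inv := fun D => ?_
      right_inv := fun D => ?_ }
  · have h1 := D.2.1 Q
    simp only [Finsupp.coe_zero, Pi.zero_apply] at h1 ⊢
    rw [Finsupp.sub_apply]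
    rcases eq_or_ne Q P with rfl | hQ
    · rw [Finsupp.single_eq_same]; omega
    · rw [Finsupp.single_eq_of_ne hQ]; omega
  · rcases eq_or_ne Q P with rfl | hQP
    · exact Finset.mem_insert_self _ _
    · refine D.2.2.2 (Finsupp.mem_support_iff.2 ?_)
      have := Finsupp.mem_support_iff.1 hQ
      rwa [Finsupp.sub_apply, Finsupp.single_eq_of_ne hQP, sub_zero] at this
  · by_cases h : D.1 P = 0
    · simp [h]
    · simp [h]
  · rcases D with D | D
    · have h : D.1 P = 0 := by
        by_contra h
        exact hP (D.2.2.2 (Finsupp.mem_support_iff.2 h))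
      simp [h]
    · have h1 := D.2.1 P
      simp only [Finsupp.coe_zero, Pi.zero_apply] at h1
      have h : ¬ (D.1 P + 1 = 0) := by omega
      simp [h]

/-- Restricting the support does not change small degrees. -/
theorem countOn_eq (S : Finset (FunFld.Place k K)) (n : ℕ) (hS : ∀ P : FunFld.Place k K, P.deg ≤ n → P ∈ S) :
    countOn S n = FunFld.effDivCount k K n := by
  refine Nat.card_congr (Equiv.subtypeEquivRight fun D => ⟨fun h => ⟨h.1, h.2.1⟩, fun h => ⟨h.1, h.2, fun P hP => hS P ?_⟩⟩)
  have h1 : D P * P.deg ≤ n := by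
    rw [← h.2]
    exact Finset.single_le_sum (f := fun Q => D Q * (Q.deg : ℤ)) (fun Q _ => mul_nonneg (h.1 Q) (Int.natCast_nonneg _)) hP
  have h2 : 1 ≤ D P := by
    have := h.1 P
    have := Finsupp.mem_support_iff.1 hP
    simp only [Finsupp.coe_zero, Pi.zero_apply] at *
    omega
  have : (P.deg : ℤ) ≤ n := (le_mul_of_one_le_left (Int.natCast_nonneg _) h2).trans h1
  omega

theorem prod_mul_countOn (R : Type*) [CommRing R] (S : Finset (FunFld.Place k K)) :
    (∏ P ∈ S, (1 - (X : PowerSeries R) ^ P.deg)) * PowerSeries.mk (fun n => (countOn S n : R)) = 1 := by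
  classical
  induction S using Finset.induction_on with
  | empty =>
    rw [Finset.prod_empty, one_mul]
    ext n
    rw [coeff_mk, coeff_one]
    rcases eq_or_ne n 0 with rfl | hn
    · have : countOn (∅ : Finset (FunFld.Place k K)) ((0 : ℕ) : ℤ) = 1 := by
        refine Nat.card_eq_one_iff_unique.2 ⟨⟨fun a b => Subtype.ext ?_⟩, ⟨⟨0, le_rfl, by simp [deg_zero], by simp⟩⟩⟩
        rw [Finsupp.support_eq_empty.1 (Finset.subset_empty.1 a.2.2.2), Finsupp.support_eq_empty.1 (Finset.subset_empty.1 b.2.2.2)]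
      rw [this, if_pos rfl, Nat.cast_one]
    · haveI : IsEmpty {D : FunFld.Divisor k K // 0 ≤ D ∧ D.deg = (n : ℤ) ∧ D.support ⊆ ∅} := ⟨fun D => by
        have h := D.2.2.1
        rw [Finsupp.support_eq_empty.1 (Finset.subset_empty.1 D.2.2.2), deg_zero] at h
        omega⟩
      rw [if_neg hn, show countOn (∅ : Finset (FunFld.Place k K)) (n : ℤ) = 0 from Nat.card_of_isEmpty, Nat.cast_zero]
  | insert P S hP ih =>
    rw [Finset.prod_insert hP]
    conv_rhs => rw [← ih]
    rw [mul_comm (1 - X ^ P.deg) _, mul_assoc]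
    congr 1
    ext n
    rw [sub_mul, one_mul, map_sub, coeff_mk, coeff_mk, coeff_X_pow_mul', countOn_insert hK S hP n]
    split_ifs with h
    · rw [coeff_mk, Nat.cast_sub h]; push_cast; ring
    · rw [countOn_neg (insert P S) (n := (n : ℤ) - P.deg) (by omega)]; push_cast; ring

/-- The quotient map modulo `X ^ M`. -/
noncomputable abbrev modX (M : ℕ) : PowerSeries ℂ →+* PowerSeries ℂ ⧸ Ideal.span {(X : PowerSeries ℂ) ^ M} :=
  Ideal.Quotient.mk _

omit hK in
theorem modX_eq_iff {M : ℕ} {f g : PowerSeries ℂ} : modX M f = modX M g ↔ ∀ i < M, coeff i f = coeff i g := by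
  rw [Ideal.Quotient.mk_eq_mk_iff_sub_mem, Ideal.mem_span_singleton, X_pow_dvd_iff]
  simp [map_sub, sub_eq_zero]

omit hK in
theorem modX_one_sub_X_pow {M d : ℕ} (h : M ≤ d) : modX M (1 - (X : PowerSeries ℂ) ^ d) = 1 := by
  rw [← map_one (modX M), modX_eq_iff]
  intro i hi
  rw [map_sub, coeff_X_pow, if_neg (by omega), sub_zero]

/-- The zeta series over `ℂ`. -/
noncomputable def zC (k K : Type*) [Field k] [Field K] [Algebra k K] : PowerSeries ℂ :=
  PowerSeries.map (Int.castRingHom ℂ) (FunFld.zetaZ k K)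

omit hK in
theorem coeff_zC (n : ℕ) : coeff n (zC k K) = (FunFld.effDivCount k K n : ℂ) := by
  simp [zC, FunFld.zetaZ]

/-- The truncated Euler product. -/
theorem euler (N : ℕ) (S : Finset (FunFld.Place k K)) (hS : ∀ P : FunFld.Place k K, P.deg ≤ N → P ∈ S) :
    modX (N + 1) ((∏ P ∈ S, (1 - X ^ P.deg)) * zC k K) = 1 := by
  refine Eq.trans ?_ ((congrArg (modX (N + 1)) (prod_mul_countOn hK ℂ S)).trans (map_one _))
  rw [map_mul, map_mul]
  congr 1
  rw [modX_eq_iff]
  intro i hi
  rw [coeff_zC, coeff_mk, countOn_eq hK S i fun P hP => hS P (by omega)]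

variable {k' K' : Type*} [Field k'] [Field K'] [Algebra k k'] [Algebra K K'] [Algebra k' K'] [Algebra k K']
  [IsScalarTower k K K'] [IsScalarTower k k' K'] [FiniteDimensional k k'] [Finite k']
  (hK' : FunFld.IsFunctionField k' K') (hce : FunFld.IsConstExt k K k' K')
include hK' hce

/-- The zeta series of a constant extension. -/
theorem zC_constExt {n : ℕ} (hn : Module.finrank k k' = n) (hn0 : n ≠ 0) :
    PowerSeries.expand n hn0 (zC k' K') =
      ∏ θ ∈ Polynomial.nthRootsFinset n (1 : ℂ), PowerSeries.rescale θ (zC k K) := by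
  classical
  haveI := finiteDimensional_ext hK hce
  ext M
  set S := (finite_places_deg_le hK M).toFinset
  have hS : ∀ P : FunFld.Place k K, P.deg ≤ M → P ∈ S := fun P hP => (Set.Finite.mem_toFinset _).2 hP
  set π := modX (M + 1)
  have hl : ∀ θ : ℂ, π (∏ P ∈ S, (1 - C (θ ^ P.deg) * X ^ P.deg)) * π (PowerSeries.rescale θ (zC k K)) = 1 := by
    intro θ
    have h := euler hK M S hS
    rw [← map_one (modX (M + 1)), modX_eq_iff] at h
    have e : ∏ P ∈ S, (1 - C (θ ^ P.deg) * X ^ P.deg) = PowerSeries.rescale θ (∏ P ∈ S, (1 - X ^ P.deg)) := by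
      rw [map_prod]
      refine Finset.prod_congr rfl fun P _ => ?_
      rw [map_sub, map_one, map_pow (PowerSeries.rescale θ), rescale_X, mul_pow, ← map_pow]
    rw [← map_mul, ← map_one π, e, ← map_mul, modX_eq_iff]
    intro i hi
    rw [coeff_rescale, h i hi, coeff_one]
    split
    · simp_all
    · simp
  -- the fibres
  have hbelow : ∀ Q : FunFld.Place k' K', ∃ P : FunFld.Place k K, FunFld.IsOver (toBase (k := k) Q) P :=
    fun Q => H23Ext.exists_below hK.1 _
  choose b hb using hbelow
  have hfin' : {Q : FunFld.Place k' K' | b Q ∈ S}.Finite := by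
    refine ((finite_places_deg_le hK' M).subset fun Q (hQ : b Q ∈ S) => ?_)
    obtain ⟨-, h2⟩ := places_over hK hce hK' (b Q)
    have h3 : (b Q).deg ≤ M := (Set.Finite.mem_toFinset (finite_places_deg_le hK M)).1 hQ
    have h4 := h2 Q (hb Q)
    have hgpos : 0 < Nat.gcd (b Q).deg (Module.finrank k k') := Nat.gcd_pos_of_pos_right _ Module.finrank_pos
    change Q.deg ≤ M
    nlinarith
  set S' := hfin'.toFinset
  have hprod : π (∏ Q ∈ S', (1 - X ^ (n * Q.deg))) =
      π (∏ θ ∈ Polynomial.nthRootsFinset n (1 : ℂ), ∏ P ∈ S, (1 - C (θ ^ P.deg) * X ^ P.deg)) := by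
    congr 1
    rw [Finset.prod_comm, ← Finset.prod_fiberwise_of_maps_to (g := b) (t := S) fun Q hQ => by
      simpa [S'] using hQ]
    refine Finset.prod_congr rfl fun P hP => ?_
    obtain ⟨h1, h2⟩ := places_over hK hce hK' P
    rw [hn] at h1 h2
    have hd := deg_pos hK P
    have hpoly := congrArg (fun p : Polynomial ℂ => (p : PowerSeries ℂ))
      (Groth.Agent.S11043.result n P.deg (Nat.pos_of_ne_zero hn0) hd)
    rw [← Polynomial.coeToPowerSeries.ringHom_apply, ← Polynomial.coeToPowerSeries.ringHom_apply, map_pow, map_sub,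
      map_one, map_pow, map_prod] at hpoly
    simp only [map_sub, map_mul, map_one, map_pow, Polynomial.coeToPowerSeries.ringHom_apply, Polynomial.coe_C,
      Polynomial.coe_X] at hpoly
    simp only [map_pow]
    rw [← hpoly]
    set T := S'.filter fun Q => b Q = P
    have hT : ∀ Q, Q ∈ T ↔ FunFld.IsOver (toBase (k := k) Q) P := fun Q => by
      simp only [T, S', Finset.mem_filter, Set.Finite.mem_toFinset, Set.mem_setOf_eq]
      exact ⟨fun h => h.2 ▸ hb Q, fun h => by rw [isOver_unique (hb Q) h]; exact ⟨hP, rfl⟩⟩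
    have hcard : T.card = Nat.gcd P.deg n := by
      rw [← h1, ← Nat.card_eq_finsetCard]
      exact Nat.card_congr (Equiv.subtypeEquivRight hT)
    have hterm : ∀ Q ∈ T, (1 : PowerSeries ℂ) - X ^ (n * Q.deg) = 1 - X ^ (n * P.deg / Nat.gcd n P.deg) := by
      intro Q hQ
      congr 2
      rw [Nat.gcd_comm n, show n * P.deg = n * Q.deg * Nat.gcd P.deg n by rw [mul_assoc, h2 Q ((hT Q).1 hQ)],
        Nat.mul_div_cancel _ (Nat.gcd_pos_of_pos_left _ hd)]
    rw [Finset.prod_congr rfl hterm, Finset.prod_const, hcard, Nat.gcd_comm]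
  have hr : π (∏ Q ∈ S', (1 - X ^ (n * Q.deg))) * π (PowerSeries.expand n hn0 (zC k' K')) = 1 := by
    set S'' := (finite_places_deg_le hK' M).toFinset
    have hsub : S' ⊆ S'' ∪ S' := Finset.subset_union_right
    have h := euler hK' M (S'' ∪ S') fun Q hQ => Finset.mem_union_left _ ((Set.Finite.mem_toFinset _).2 hQ)
    rw [← map_one (modX (M + 1)), modX_eq_iff] at h
    have h' : π (PowerSeries.expand n hn0 ((∏ Q ∈ S'' ∪ S', (1 - X ^ Q.deg)) * zC k' K')) = 1 := by
      rw [← map_one π, modX_eq_iff]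
      intro i hi
      rw [coeff_expand]
      split
      · rw [h _ (lt_of_le_of_lt (Nat.div_le_self _ _) hi), coeff_one, coeff_one]
        rename_i hdvd
        obtain ⟨c, rfl⟩ := hdvd
        rw [Nat.mul_div_cancel_left _ (Nat.pos_of_ne_zero hn0)]
        simp [hn0]
      · rename_i hdvd
        rw [coeff_one, if_neg]
        rintro rfl
        exact hdvd (dvd_zero _)
    rw [← map_mul]
    refine Eq.trans ?_ h'
    rw [map_mul, map_mul (PowerSeries.expand n hn0), map_mul]
    congr 1
    rw [map_prod (PowerSeries.expand n hn0), map_prod, map_prod, ← Finset.prod_subset hsub]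
    · refine Finset.prod_congr rfl fun Q _ => ?_
      rw [map_sub, map_sub (PowerSeries.expand n hn0), map_one (PowerSeries.expand n hn0), map_pow (PowerSeries.expand n hn0),
        expand_X, map_sub, ← pow_mul]
    · intro Q _ hQ
      rw [map_sub (PowerSeries.expand n hn0), map_one (PowerSeries.expand n hn0), map_pow (PowerSeries.expand n hn0),
        expand_X, ← pow_mul]
      refine modX_one_sub_X_pow ?_
      by_contra hlt
      refine hQ ((Set.Finite.mem_toFinset _).2 (hS (b Q) ?_))
      obtain ⟨-, h2⟩ := places_over hK hce hK' (b Q)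
      rw [hn] at h2
      have h3 := h2 Q (hb Q)
      have h4 : Nat.gcd (b Q).deg n ≤ n := Nat.gcd_le_right _ (Nat.pos_of_ne_zero hn0)
      nlinarith
  have key : π (PowerSeries.expand n hn0 (zC k' K')) =
      π (∏ θ ∈ Polynomial.nthRootsFinset n (1 : ℂ), PowerSeries.rescale θ (zC k K)) := by
    refine (left_inv_eq_right_inv ?_ hr).symm
    rw [hprod, map_prod, map_prod, ← Finset.prod_mul_distrib]
    refine Finset.prod_eq_one fun θ _ => ?_
    rw [mul_comm]
    exact hl θ
  exact modX_eq_iff.1 key M (Nat.lt_succ_self M)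

end Groth.Agent.H23Zeta
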