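import Mathlib
import Groth.Agent.H23Zeta.Series

/-!
The numerator of the zeta series, given divisors of every degree.
-/

set_option autoImplicit false
set_option linter.unusedSectionVars false

namespace Groth.Agent.H23Zeta

open Groth.Agent.H23FunFld

variable {k K : Type*} [Field k] [Field K] [Algebra k K] [Finite k] (hK : FunFld.IsFunctionField k K)
  (h1 : ∀ n : ℤ, ∃ D : FunFld.Divisor k K, D.deg = n)

/-- The `i`-th coefficient of the numerator as a rational number. -/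
noncomputable abbrev lc (k K : Type*) [Field k] [Field K] [Algebra k K] (i : ℕ) : ℚ :=
  ((PowerSeries.coeff i (FunFld.numerZ k K) : ℤ) : ℚ)

theorem q_gt_one : (1 : ℚ) < (Nat.card k : ℚ) := by exact_mod_cast Finite.one_lt_card

include hK h1

theorem coeff_sumQ (i : ℕ) : ((Nat.card k : ℚ) - 1) * lc k K i =
    sumQ k K i - ((Nat.card k : ℚ) + 1) * sumQ k K ((i : ℤ) - 1) + (Nat.card k : ℚ) * sumQ k K ((i : ℤ) - 2) := by
  have h := fun n : ℤ => card_eff_eq hK n
  simp only [card_Cl hK (h1 _)] at h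
  rw [lc, coeff_numerZ hK i]
  push_cast
  linear_combination h i - ((Nat.card k : ℚ) + 1) * h ((i : ℤ) - 1) + (Nat.card k : ℚ) * h ((i : ℤ) - 2)

theorem lc_eq_zero {i : ℕ} (hi : 2 * FunFld.genus k K < i) : lc k K i = 0 := by
  have hq := q_gt_one (k := k)
  have h := coeff_sumQ hK h1 i
  rw [sumQ_large hK (n := (i : ℤ)) (by omega), sumQ_large hK (n := (i : ℤ) - 1) (by omega),
    sumQ_large hK (n := (i : ℤ) - 2) (by omega), card_Cl hK (h1 _), card_Cl hK (h1 _), card_Cl hK (h1 _)] at h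
  have hq0 : (Nat.card k : ℚ) ≠ 0 := by positivity
  rw [show (i : ℤ) + 1 - (FunFld.genus k K : ℤ) = ((i : ℤ) - 1 - FunFld.genus k K) + 1 + 1 by ring,
    show (i : ℤ) - 1 + 1 - (FunFld.genus k K : ℤ) = ((i : ℤ) - 1 - FunFld.genus k K) + 1 by ring,
    show (i : ℤ) - 2 + 1 - (FunFld.genus k K : ℤ) = ((i : ℤ) - 1 - FunFld.genus k K) by ring,
    zpow_add_one₀ hq0, zpow_add_one₀ hq0] at h
  have : ((Nat.card k : ℚ) - 1) * lc k K i = 0 := by rw [h]; ring
  rcases mul_eq_zero.1 this with h0 | h0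
  · linarith
  · exact h0

theorem lc_symm {i : ℕ} (hi : i ≤ 2 * FunFld.genus k K) :
    lc k K (2 * FunFld.genus k K - i) = (Nat.card k : ℚ) ^ ((FunFld.genus k K : ℤ) - i) * lc k K i := by
  have hq := q_gt_one (k := k)
  have hq0 : (Nat.card k : ℚ) ≠ 0 := by positivity
  set g : ℤ := (FunFld.genus k K : ℤ) with hg
  have h := coeff_sumQ hK h1 (2 * FunFld.genus k K - i)
  have hc : ((2 * FunFld.genus k K - i : ℕ) : ℤ) = 2 * g - i := by omega
  rw [hc, sumQ_symm hK (2 * g - i), sumQ_symm hK (2 * g - i - 1), sumQ_symm hK (2 * g - i - 2), ← hg,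
    show 2 * g - 2 - (2 * g - i) = (i : ℤ) - 2 by ring, show 2 * g - 2 - (2 * g - i - 1) = (i : ℤ) - 1 by ring,
    show 2 * g - 2 - (2 * g - i - 2) = (i : ℤ) by ring,
    show 2 * g - i + 1 - g = (g - i - 1) + 1 + 1 by ring, show 2 * g - i - 1 + 1 - g = (g - i - 1) + 1 by ring,
    show 2 * g - i - 2 + 1 - g = g - i - 1 by ring, zpow_add_one₀ hq0, zpow_add_one₀ hq0] at h
  have h' := coeff_sumQ hK h1 i
  refine mul_left_cancel₀ (sub_ne_zero.2 hq.ne') ?_
  rw [h, show g - i = (g - i - 1) + 1 by ring, zpow_add_one₀ hq0, add_sub_cancel_right]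
  linear_combination (-((Nat.card k : ℚ) ^ (g - i - 1) * (Nat.card k : ℚ))) * h'

theorem lc_zero : lc k K 0 = 1 := by
  rw [lc, coeff_numerZ hK 0, card_eff_neg (n := ((0 : ℕ) : ℤ) - 1) (by norm_num),
    card_eff_neg (n := ((0 : ℕ) : ℤ) - 2) (by norm_num)]
  have : Nat.card (Eff k K ((0 : ℕ) : ℤ)) = 1 := by
    rw [Nat.card_eq_one_iff_unique]
    exact ⟨⟨fun a b => Subtype.ext ((deg_nonneg_lt hK a.2.1 (le_of_eq (by simpa using a.2.2))).trans
      (deg_nonneg_lt hK b.2.1 (le_of_eq (by simpa using b.2.2))).symm)⟩, ⟨⟨0, le_rfl, by simp [deg_zero]⟩⟩⟩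
  rw [this]
  push_cast [show ((0 : ℕ) : ℤ) - 1 = -1 by norm_num]
  simp

theorem lc_top : lc k K (2 * FunFld.genus k K) = (Nat.card k : ℚ) ^ FunFld.genus k K := by
  have h := lc_symm hK h1 (i := 0) (Nat.zero_le _)
  rwa [Nat.sub_zero, lc_zero hK h1, mul_one, Nat.cast_zero, sub_zero, zpow_natCast] at h

theorem sum_lc {N : ℕ} (hN : 2 * FunFld.genus k K ≤ N) :
    ∑ i ∈ Finset.range (N + 1), lc k K i = (FunFld.classNum k K : ℚ) := by
  have hq := q_gt_one (k := k)
  refine mul_left_cancel₀ (sub_ne_zero.2 hq.ne') ?_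
  rw [Finset.mul_sum, Finset.sum_congr rfl fun i _ => coeff_sumQ hK h1 i]
  set q : ℚ := (Nat.card k : ℚ)
  set s := sumQ k K
  have tele : ∀ M : ℕ, ∑ i ∈ Finset.range (M + 1), (s i - (q + 1) * s ((i : ℤ) - 1) + q * s ((i : ℤ) - 2)) =
      (s M - s (-1)) - q * (s ((M : ℤ) - 1) - s (-2)) := by
    intro M
    induction M with
    | zero => simp only [zero_add, Finset.sum_range_one, Nat.cast_zero, zero_sub]; ring
    | succ m ih =>
      rw [Finset.sum_range_succ, ih]
      push_cast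
      rw [add_sub_cancel_right, show (m : ℤ) + 1 - 2 = m - 1 by ring]
      ring
  rw [tele]
  have hneg : ∀ n : ℤ, n < 0 → s n = (FunFld.classNum k K : ℚ) := fun n hn => by
    have h := card_eff_eq hK n
    rw [card_eff_neg hn, card_Cl hK (h1 n)] at h
    push_cast at h
    linarith
  rw [hneg (-1) (by norm_num), hneg (-2) (by norm_num), show s N = _ from sumQ_large hK (n := (N : ℤ)) (by omega),
    show s ((N : ℤ) - 1) = _ from sumQ_large hK (n := (N : ℤ) - 1) (by omega), card_Cl hK (h1 _), card_Cl hK (h1 _),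
    show (N : ℤ) + 1 - (FunFld.genus k K : ℤ) = ((N : ℤ) - FunFld.genus k K) + 1 by ring,
    show (N : ℤ) - 1 + 1 - (FunFld.genus k K : ℤ) = (N : ℤ) - FunFld.genus k K by ring,
    zpow_add_one₀ (by positivity)]
  ring

/-- The numerator as a polynomial. -/
theorem exists_poly : ∃ p : Polynomial ℤ, (p : PowerSeries ℤ) = FunFld.numerZ k K ∧ p.natDegree = 2 * FunFld.genus k K := by
  have hz : ∀ i, 2 * FunFld.genus k K < i → PowerSeries.coeff i (FunFld.numerZ k K) = 0 := fun i hi => by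
    have := lc_eq_zero hK h1 hi
    rw [lc, Int.cast_eq_zero] at this
    exact this
  refine ⟨PowerSeries.trunc (2 * FunFld.genus k K + 1) (FunFld.numerZ k K), ?_, ?_⟩
  · ext i
    rw [Polynomial.coeff_coe, PowerSeries.coeff_trunc]
    split_ifs with hi
    · rfl
    · exact (hz i (by omega)).symm
  · refine Polynomial.natDegree_eq_of_le_of_coeff_ne_zero (Nat.lt_succ_iff.1 (PowerSeries.natDegree_trunc_lt _ _)) ?_
    rw [PowerSeries.coeff_trunc, if_pos (Nat.lt_succ_self _)]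
    intro h0
    have h := lc_top hK h1
    rw [lc, h0, Int.cast_zero] at h
    have hq := q_gt_one (k := k)
    exact (pow_ne_zero _ (by positivity : (Nat.card k : ℚ) ≠ 0)) h.symm

end Groth.Agent.H23Zeta
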