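import Mathlib
import Groth.Agent.H23Zeta.Euler
import Groth.Agent.H23Zeta.Numer

/-!
Divisors of degree one exist over a finite constant field.
-/

set_option autoImplicit false
set_option linter.unusedSectionVars false
set_option linter.style.haveILetI false

namespace Groth.Agent.H23Zeta

open Groth.Agent.H23FunFld Groth.Agent.H23Ext Polynomial

variable {k K : Type*} [Field k] [Field K] [Algebra k K] [Finite k]

/-- The index of the degree map. -/
theorem exists_index (hK : FunFld.IsFunctionField k K) : ∃ δ : ℕ, 0 < δ ∧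
    ∀ n : ℤ, (∃ D : FunFld.Divisor k K, D.deg = n) ↔ (δ : ℤ) ∣ n := by
  obtain ⟨a, ha⟩ := Int.subgroup_cyclic (FunFld.degHom k K).range
  have hmem : ∀ n : ℤ, (∃ D : FunFld.Divisor k K, D.deg = n) ↔ (a.natAbs : ℤ) ∣ n := fun n => by
    rw [Int.natAbs_dvd, ← Int.mem_zmultiples_iff, AddSubgroup.zmultiples_eq_closure, ← ha]
    exact exists_congr fun D => by rw [degHom_eq]
  refine ⟨a.natAbs, Nat.pos_of_ne_zero fun h0 => ?_, hmem⟩
  obtain ⟨P⟩ := nonempty_place hK
  have h := (hmem P.deg).1 ⟨Finsupp.single P 1, by rw [deg_single, one_mul]⟩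
  rw [h0, Nat.cast_zero, zero_dvd_iff] at h
  have := deg_pos hK P
  omega

theorem effDivCount_eq_zero {δ : ℕ} (hidx : ∀ n : ℤ, (∃ D : FunFld.Divisor k K, D.deg = n) → (δ : ℤ) ∣ n)
    {n : ℕ} (hn : ¬ δ ∣ n) : FunFld.effDivCount k K n = 0 := by
  haveI : IsEmpty (Eff k K (n : ℤ)) := ⟨fun D => hn (Int.natCast_dvd_natCast.1 (hidx _ ⟨D.1, D.2.2⟩))⟩
  exact Nat.card_of_isEmpty

/-- The zeta series times its denominator is a polynomial without a zero at `1`. -/
theorem exists_poly_index (hK : FunFld.IsFunctionField k K) {δ : ℕ} (hδ : 0 < δ)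
    (hidx : ∀ n : ℤ, (∃ D : FunFld.Divisor k K, D.deg = n) ↔ (δ : ℤ) ∣ n) :
    ∃ P : ℂ[X], P.eval 1 ≠ 0 ∧ (P : PowerSeries ℂ) =
      (((1 - X ^ δ) * (1 - C ((Nat.card k : ℂ) ^ δ) * X ^ δ) : ℂ[X]) : PowerSeries ℂ) * zC k K := by
  classical
  set q : ℂ := (Nat.card k : ℂ) with hq
  set Q : ℂ := q ^ δ with hQ
  set g := FunFld.genus k K
  set h : ℂ := (FunFld.classNum k K : ℂ)
  have hq1 : q - 1 ≠ 0 := by
    rw [sub_ne_zero, hq, Ne, Nat.cast_eq_one]
    exact Finite.one_lt_card.ne'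
  set a : ℕ → ℂ := fun n => (FunFld.effDivCount k K n : ℂ)
  have ha0 : ∀ n, ¬ δ ∣ n → a n = 0 := fun n hn => by
    simp [a, effDivCount_eq_zero (fun n hn => (hidx n).1 hn) hn]
  have ha : ∀ n, δ ∣ n → 2 * g ≤ n + 1 → a n * (q - 1) = h * (q ^ (n + 1 - g) - 1) := by
    intro n hn hng
    have h1 := card_eff_eq hK (n : ℤ)
    rw [sumQ_large hK (n := (n : ℤ)) (by omega), card_Cl hK ((hidx n).2 (Int.natCast_dvd_natCast.2 hn)),
      show (n : ℤ) + 1 - (FunFld.genus k K : ℤ) = ((n + 1 - g : ℕ) : ℤ) by omega, zpow_natCast, eff_natCast] at h1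
    have h2 := congrArg (fun r : ℚ => (r : ℂ)) h1
    push_cast at h2
    linear_combination h2
  set Z := zC k K
  have hZ : ∀ n, PowerSeries.coeff n Z = a n := fun n => coeff_zC n
  set W : PowerSeries ℂ := (1 - PowerSeries.X ^ δ) * (1 - PowerSeries.C Q * PowerSeries.X ^ δ) * Z
  have hW : W = (((1 - X ^ δ) * (1 - C Q * X ^ δ) : ℂ[X]) : PowerSeries ℂ) * Z := by
    rw [← Polynomial.coeToPowerSeries.ringHom_apply, map_mul, map_sub, map_sub, map_mul, map_pow, map_one]
    simp [W, Polynomial.coeToPowerSeries.ringHom_apply]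
  have hcoeff : ∀ i, 2 * δ ≤ i → PowerSeries.coeff i W = a i - (1 + Q) * a (i - δ) + Q * a (i - δ - δ) := by
    intro i hi
    have e : W = Z - PowerSeries.C (1 + Q) * (PowerSeries.X ^ δ * Z) + PowerSeries.C Q * (PowerSeries.X ^ δ * (PowerSeries.X ^ δ * Z)) := by
      simp only [W, map_add, map_one]; ring
    rw [e, map_add, map_sub, PowerSeries.coeff_C_mul, PowerSeries.coeff_C_mul, PowerSeries.coeff_X_pow_mul',
      if_pos (by omega), PowerSeries.coeff_X_pow_mul', if_pos (by omega), PowerSeries.coeff_X_pow_mul',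
      if_pos (by omega), hZ, hZ, hZ]
  have hzero : ∀ i, 2 * g + 2 * δ ≤ i → PowerSeries.coeff i W = 0 := by
    intro i hi
    rw [hcoeff i (by omega)]
    by_cases hd : δ ∣ i
    · refine (mul_eq_zero.1 ?_).resolve_right hq1
      have hd1 : δ ∣ i - δ := Nat.dvd_sub hd dvd_rfl
      have hd2 : δ ∣ i - δ - δ := Nat.dvd_sub hd1 dvd_rfl
      obtain ⟨e, he⟩ : ∃ e, i - δ - δ + 1 - g = e := ⟨_, rfl⟩
      rw [add_mul, sub_mul, mul_assoc, mul_assoc, ha i hd (by omega), ha _ hd1 (by omega), ha _ hd2 (by omega), he,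
        show i + 1 - g = e + δ + δ by omega, show i - δ + 1 - g = e + δ by omega, hQ, pow_add, pow_add]
      ring
    · have hd1 : ¬ δ ∣ i - δ := fun h => hd (by have := Nat.dvd_add h (dvd_refl δ); rwa [Nat.sub_add_cancel (by omega)] at this)
      have hd2 : ¬ δ ∣ i - δ - δ := fun h => hd1 (by have := Nat.dvd_add h (dvd_refl δ); rwa [Nat.sub_add_cancel (by omega)] at this)
      rw [ha0 _ hd, ha0 _ hd1, ha0 _ hd2]; ring
  refine ⟨PowerSeries.trunc (2 * g + 2 * δ) W, ?_, ?_⟩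
  swap
  · rw [← hW]
    ext i
    rw [Polynomial.coeff_coe, PowerSeries.coeff_trunc]
    split_ifs with hi
    · rfl
    · exact (hzero i (by omega)).symm
  -- the value at `1`
  set m := 2 * g + 2 * δ
  set N := δ * m
  have hmN : m ≤ N := Nat.le_mul_of_pos_left _ hδ
  set V : PowerSeries ℂ := (∑ j ∈ Finset.range δ, PowerSeries.X ^ j) * (Z - PowerSeries.C Q * (PowerSeries.X ^ δ * Z))
  have hV : (1 - PowerSeries.X) * V = W := by
    simp only [V, W]
    rw [← mul_assoc, mul_comm (1 - PowerSeries.X) (∑ j ∈ Finset.range δ, PowerSeries.X ^ j), geom_sum_mul_neg]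
    ring
  have hsum : ∀ n, ∑ i ∈ Finset.range (n + 1), PowerSeries.coeff i W = PowerSeries.coeff n V := by
    intro n
    induction n with
    | zero => rw [← hV]; simp [sub_mul]
    | succ n ih =>
      rw [Finset.sum_range_succ, ih, ← hV, sub_mul, one_mul, map_sub, PowerSeries.coeff_succ_X_mul]
      ring
  have heval : (PowerSeries.trunc m W).eval 1 = PowerSeries.coeff N V := by
    rw [← hsum N, Polynomial.eval_eq_sum_range' (n := N + 1) (lt_of_le_of_lt (Polynomial.natDegree_le_iff_coeff_eq_zero.2 fun i hi => by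
      rw [PowerSeries.coeff_trunc, if_neg (by omega)]) (show m < N + 1 by omega))]
    refine Finset.sum_congr rfl fun i _ => ?_
    rw [one_pow, mul_one, PowerSeries.coeff_trunc]
    split_ifs with hi
    · rfl
    · exact (hzero i (by omega)).symm
  rw [heval]
  have hVN : PowerSeries.coeff N V = a N - Q * a (N - δ) := by
    simp only [V, Finset.sum_mul, map_sum, PowerSeries.coeff_X_pow_mul']
    rw [Finset.sum_eq_single 0]
    · rw [if_pos (Nat.zero_le _), Nat.sub_zero, map_sub, PowerSeries.coeff_C_mul, PowerSeries.coeff_X_pow_mul',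
        if_pos (by omega), hZ, hZ]
    · intro j hj hj0
      rw [Finset.mem_range] at hj
      rw [if_pos (by omega), map_sub, PowerSeries.coeff_C_mul, PowerSeries.coeff_X_pow_mul', if_pos (by omega), hZ, hZ]
      have h1 : ¬ δ ∣ N - j := fun h => by
        have := Nat.dvd_sub (dvd_mul_right δ m) h
        rw [show δ * m - (N - j) = j by simp only [N] at *; omega] at this
        exact absurd (Nat.le_of_dvd (by omega) this) (by omega)
      have h2 : ¬ δ ∣ N - j - δ := fun h => h1 (by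
        have := Nat.dvd_add h (dvd_refl δ); rwa [Nat.sub_add_cancel (by omega)] at this)
      rw [ha0 _ h1, ha0 _ h2]; ring
    · intro h; exact absurd (Finset.mem_range.2 hδ) h
  rw [hVN]
  intro h0
  have hh : h ≠ 0 := Nat.cast_ne_zero.2 (classNum_pos hK).ne'
  have hQ1 : Q - 1 ≠ 0 := by
    rw [sub_ne_zero, hQ, hq, ← Nat.cast_pow, Ne, Nat.cast_eq_one]
    exact (Nat.one_lt_pow hδ.ne' Finite.one_lt_card).ne'
  refine mul_ne_zero hh hQ1 ?_
  obtain ⟨e, he⟩ : ∃ e, N - δ + 1 - g = e := ⟨_, rfl⟩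
  have e1 := ha N (dvd_mul_right _ _) (by omega)
  have e2 := ha (N - δ) (Nat.dvd_sub (dvd_mul_right _ _) dvd_rfl) (by omega)
  rw [he] at e2
  rw [show N + 1 - g = e + δ by omega, pow_add, ← hQ] at e1
  linear_combination (q - 1) * h0 - e1 + Q * e2

theorem rescale_zC {δ : ℕ} (hidx : ∀ n : ℤ, (∃ D : FunFld.Divisor k K, D.deg = n) → (δ : ℤ) ∣ n)
    {θ : ℂ} (hθ : θ ^ δ = 1) : PowerSeries.rescale θ (zC k K) = zC k K := by
  ext n
  rw [PowerSeries.coeff_rescale, coeff_zC]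
  by_cases hn : δ ∣ n
  · obtain ⟨c, rfl⟩ := hn
    rw [pow_mul, hθ, one_pow, one_mul]
  · haveI : IsEmpty (Eff k K (n : ℤ)) := ⟨fun D => hn (Int.natCast_dvd_natCast.1 (hidx _ ⟨D.1, D.2.2⟩))⟩
    rw [← eff_natCast, Nat.card_of_isEmpty, Nat.cast_zero, mul_zero]

/-- Divisors of every degree exist. -/
theorem exists_deg (hK : FunFld.IsFunctionField k K) (n : ℤ) : ∃ D : FunFld.Divisor k K, D.deg = n := by
  obtain ⟨δ, hδ, hidx⟩ := exists_index hK
  suffices δ = 1 by rw [hidx, this]; exact one_dvd _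
  obtain ⟨k', K', i1, i2, i3, i4, i5, i6, i7, i8, i9, hK', hce, hfin⟩ := exists_constExt hK δ hδ
  haveI : FiniteDimensional k k' := Module.finite_of_finrank_pos (by omega)
  obtain ⟨δ', hδ', hidx'⟩ := exists_index hK'
  obtain ⟨P, hP, hPZ⟩ := exists_poly_index hK hδ hidx
  obtain ⟨P', hP', hPZ'⟩ := exists_poly_index hK' hδ' hidx'
  have hZ := zC_constExt hK hK' hce hfin hδ.ne'
  rw [Finset.prod_congr rfl fun θ hθ => rescale_zC (fun n hn => (hidx n).1 hn)
      ((Polynomial.mem_nthRootsFinset hδ _).1 hθ), Finset.prod_const,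
    (Complex.isPrimitiveRoot_exp δ hδ.ne').card_nthRootsFinset] at hZ
  set A : ℂ[X] := (1 - X ^ δ) * (1 - C ((Nat.card k : ℂ) ^ δ) * X ^ δ)
  set B : ℂ[X] := (1 - X ^ δ') * (1 - C ((Nat.card k' : ℂ) ^ δ') * X ^ δ')
  have hexp : ∀ p : ℂ[X], PowerSeries.expand δ hδ.ne' (p : PowerSeries ℂ) = ((Polynomial.expand ℂ δ p : ℂ[X]) : PowerSeries ℂ) := by
    intro p
    ext i
    rw [PowerSeries.coeff_expand, Polynomial.coeff_coe, Polynomial.coeff_coe, Polynomial.coeff_expand hδ]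
  have key : Polynomial.expand ℂ δ P' * A ^ δ = P ^ δ * Polynomial.expand ℂ δ B := by
    apply Polynomial.coe_inj.1
    rw [Polynomial.coe_mul, Polynomial.coe_mul, Polynomial.coe_pow, Polynomial.coe_pow, ← hexp, ← hexp, hPZ, hPZ',
      map_mul, hZ, mul_pow]
    ring
  by_contra hne
  have h2 : 2 ≤ δ := by omega
  have hfac : ∀ (m : ℕ), 0 < m → ((X : ℂ[X]) - C 1) ∣ 1 - X ^ m ∧ ¬ ((X : ℂ[X]) - C 1) ^ 2 ∣ 1 - X ^ m := by
    intro m hm
    refine ⟨Polynomial.dvd_iff_isRoot.2 (by simp), fun h => ?_⟩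
    obtain ⟨c, hc⟩ := h
    have := congrArg (fun p : ℂ[X] => (Polynomial.derivative p).eval 1) hc
    simp [Polynomial.derivative_mul, Polynomial.derivative_pow] at this
    omega
  have hA : ((X : ℂ[X]) - C 1) ^ 2 ∣ Polynomial.expand ℂ δ P' * A ^ δ := by
    refine (pow_dvd_pow _ h2).trans (Dvd.dvd.mul_left (pow_dvd_pow_of_dvd ?_ δ) _)
    exact (hfac δ hδ).1.mul_right _
  rw [key] at hA
  have hp : Prime ((X : ℂ[X]) - C 1) := Polynomial.prime_X_sub_C 1
  have hPδ : ¬ ((X : ℂ[X]) - C 1) ∣ P ^ δ := fun h => hP (Polynomial.dvd_iff_isRoot.1 (hp.dvd_of_dvd_pow h))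
  have hB := hp.pow_dvd_of_dvd_mul_left 2 hPδ hA
  simp only [B, map_mul, map_sub, map_one, map_pow, Polynomial.expand_X, Polynomial.expand_C, ← pow_mul] at hB
  refine (hfac (δ * δ') (Nat.mul_pos hδ hδ')).2 (hp.pow_dvd_of_dvd_mul_right 2 ?_ hB)
  intro h
  have h1 := Polynomial.dvd_iff_isRoot.1 h
  simp only [Polynomial.IsRoot.def, Polynomial.eval_sub, Polynomial.eval_one, Polynomial.eval_mul, Polynomial.eval_pow,
    Polynomial.eval_C, Polynomial.eval_X, one_pow, mul_one, sub_eq_zero] at h1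
  have h4 : Nat.card k' ^ δ' = 1 := by exact_mod_cast h1.symm
  exact (Nat.one_lt_pow hδ'.ne' Finite.one_lt_card).ne' h4

end Groth.Agent.H23Zeta
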