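import Mathlib
import Groth.Agent.H23Zeta.Schmidt
import Groth.Agent.H23Curve.Basic

/-!
The numerator of the zeta series of a constant extension, and degree-one places.
-/

set_option autoImplicit false
set_option linter.unusedSectionVars false
set_option linter.style.haveILetI false

namespace Groth.Agent.H23Zeta

open Groth.Agent.H23FunFld PowerSeries

variable {k K : Type*} [Field k] [Field K] [Algebra k K]

theorem map_numerZ : PowerSeries.map (Int.castRingHom ℂ) (FunFld.numerZ k K) =
    (1 - X) * (1 - C (Nat.card k : ℂ) * X) * zC k K := by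
  simp [FunFld.numerZ, zC]

theorem prod_one_sub_nthRoots {n : ℕ} (hn : n ≠ 0) (a : ℂ) :
    ∏ θ ∈ Polynomial.nthRootsFinset n (1 : ℂ), (1 - C (θ * a) * X) = (1 : PowerSeries ℂ) - C (a ^ n) * X ^ n := by
  have h := congrArg (fun p : Polynomial ℂ => PowerSeries.rescale a (p : PowerSeries ℂ))
    (Groth.Agent.S11043.result n 1 (Nat.pos_of_ne_zero hn) one_pos)
  simp only [Nat.gcd_one_right, Nat.mul_one, Nat.div_one, pow_one] at h
  rw [← Polynomial.coeToPowerSeries.ringHom_apply, ← Polynomial.coeToPowerSeries.ringHom_apply, map_prod,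
    map_prod] at h
  simp only [map_sub, map_mul, map_one, map_pow, Polynomial.coeToPowerSeries.ringHom_apply, Polynomial.coe_C,
    Polynomial.coe_X, Polynomial.coe_sub, Polynomial.coe_one, Polynomial.coe_mul, Polynomial.coe_pow, rescale_X] at h
  rw [mul_pow, ← map_pow] at h
  rw [h]
  refine Finset.prod_congr rfl fun θ _ => ?_
  have e : PowerSeries.rescale a (C θ : PowerSeries ℂ) = C θ := by
    ext (_ | i) <;> simp [coeff_rescale, coeff_C]
  rw [e, ← mul_assoc, ← map_mul]

theorem coeff_one_prod {ι : Type*} (s : Finset ι) (c : ι → ℂ) :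
    coeff 1 ((∏ i ∈ s, (1 - Polynomial.C (c i) * Polynomial.X) : Polynomial ℂ) : PowerSeries ℂ) = -∑ i ∈ s, c i := by
  classical
  rw [Polynomial.coeff_coe]
  induction s using Finset.induction_on with
  | empty => simp [Polynomial.coeff_one]
  | insert a s ha ih =>
    have h0 : (∏ i ∈ s, (1 - Polynomial.C (c i) * Polynomial.X)).coeff 0 = 1 := by
      rw [Polynomial.coeff_zero_prod]
      simp
    rw [Finset.prod_insert ha, Finset.sum_insert ha, sub_mul, one_mul, mul_assoc, Polynomial.coeff_sub,
      Polynomial.coeff_C_mul, show (1 : ℕ) = 0 + 1 from rfl, Polynomial.coeff_X_mul, h0]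
    rw [ih]; ring

variable [Finite k] (hK : FunFld.IsFunctionField k K)
include hK

theorem effDivCount_zero : FunFld.effDivCount k K 0 = 1 := by
  rw [← eff_natCast, Nat.card_eq_one_iff_unique]
  exact ⟨⟨fun a b => Subtype.ext ((deg_nonneg_lt hK a.2.1 (le_of_eq (by simpa using a.2.2))).trans
    (deg_nonneg_lt hK b.2.1 (le_of_eq (by simpa using b.2.2))).symm)⟩, ⟨⟨0, le_rfl, by simp [deg_zero]⟩⟩⟩

theorem effDivCount_one : FunFld.effDivCount k K 1 = Nat.card {P : FunFld.Place k K // P.deg = 1} := by
  rw [← eff_natCast]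
  symm
  refine Nat.card_eq_of_bijective (fun P => ⟨Finsupp.single P.1 1, Finsupp.single_nonneg.2 zero_le_one,
    by rw [deg_single, P.2]; simp⟩) ⟨fun P Q h => Subtype.ext (Finsupp.single_left_injective one_ne_zero
      (congrArg (fun D : Eff k K ((1 : ℕ) : ℤ) => D.1) h)), fun D => ?_⟩
  obtain ⟨P, hP, hD⟩ := H23Curve.eq_single_of_deg_one hK D.2.1 (by simpa using D.2.2)
  exact ⟨⟨P, hP⟩, Subtype.ext hD.symm⟩

/-- The first coefficient of the numerator. -/
theorem coeff_one_numerZ : coeff 1 (PowerSeries.map (Int.castRingHom ℂ) (FunFld.numerZ k K)) =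
    (Nat.card {P : FunFld.Place k K // P.deg = 1} : ℂ) - ((Nat.card k : ℂ) + 1) := by
  rw [PowerSeries.coeff_map, coeff_numerZ hK 1, card_eff_neg (n := ((1 : ℕ) : ℤ) - 2) (by norm_num), eff_natCast,
    effDivCount_one hK, show ((1 : ℕ) : ℤ) - 1 = ((0 : ℕ) : ℤ) by norm_num, eff_natCast, effDivCount_zero hK]
  simp

variable {k' K' : Type*} [Field k'] [Field K'] [Algebra k k'] [Algebra K K'] [Algebra k' K'] [Finite k']
  (hK' : FunFld.IsFunctionField k' K') (hce : FunFld.IsConstExt k K k' K')
include hK' hce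

/-- The numerator of a constant extension. -/
theorem numerZ_constExt {ι : Type*} [Fintype ι] (α : ι → ℂ)
    (hα : PowerSeries.map (Int.castRingHom ℂ) (FunFld.numerZ k K) =
      ((∏ i, (1 - Polynomial.C (α i) * Polynomial.X) : Polynomial ℂ) : PowerSeries ℂ)) :
    PowerSeries.map (Int.castRingHom ℂ) (FunFld.numerZ k' K') =
      ((∏ i, (1 - Polynomial.C (α i ^ Module.finrank k k') * Polynomial.X) : Polynomial ℂ) :
        PowerSeries ℂ) := by
  classical
  letI : Algebra k K' := ((algebraMap K K').comp (algebraMap k K)).toAlgebra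
  haveI : IsScalarTower k K K' := IsScalarTower.of_algebraMap_eq fun _ => rfl
  haveI : IsScalarTower k k' K' := IsScalarTower.of_algebraMap_eq fun c => hce.1 c
  haveI : FiniteDimensional k k' := Module.Finite.of_finite
  set n := Module.finrank k k' with hn
  have hn0 : n ≠ 0 := Module.finrank_pos.ne'
  have hZ := zC_constExt hK hK' hce rfl hn0
  have hq : (Nat.card k' : ℂ) = (Nat.card k : ℂ) ^ n := by
    rw [Module.natCard_eq_pow_finrank (K := k) (V := k'), Nat.cast_pow]
  have hlin : ∀ a θ : ℂ, PowerSeries.rescale θ (1 - C a * X) = 1 - C (θ * a) * X := fun a θ => by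
    have e : PowerSeries.rescale θ (C a : PowerSeries ℂ) = C a := by
      ext (_ | i) <;> simp [coeff_rescale, coeff_C]
    rw [map_sub, map_one, map_mul, rescale_X, e, ← mul_assoc, ← map_mul, mul_comm a θ]
  have key : PowerSeries.expand n hn0 (PowerSeries.map (Int.castRingHom ℂ) (FunFld.numerZ k' K')) =
      PowerSeries.expand n hn0 ((∏ i, (1 - Polynomial.C (α i ^ n) * Polynomial.X) : Polynomial ℂ) : PowerSeries ℂ) := by
    have h1 : ∏ θ ∈ Polynomial.nthRootsFinset n (1 : ℂ),
        PowerSeries.rescale θ (PowerSeries.map (Int.castRingHom ℂ) (FunFld.numerZ k K)) =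
        (1 - X ^ n) * (1 - C ((Nat.card k : ℂ) ^ n) * X ^ n) * PowerSeries.expand n hn0 (zC k' K') := by
      have e1 : ∀ θ : ℂ, PowerSeries.rescale θ ((1 : PowerSeries ℂ) - X) = 1 - C (θ * 1) * X := fun θ => by
        rw [map_sub, map_one, rescale_X, mul_one]
      rw [map_numerZ, hZ]
      simp only [map_mul (PowerSeries.rescale _), Finset.prod_mul_distrib, e1, hlin]
      rw [prod_one_sub_nthRoots hn0, prod_one_sub_nthRoots hn0, one_pow, map_one, one_mul]
    rw [map_numerZ, map_mul, map_mul, map_sub, map_sub, map_mul, map_one, expand_C, expand_X, hq, ← h1, hα,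
      ← Polynomial.coeToPowerSeries.ringHom_apply, ← Polynomial.coeToPowerSeries.ringHom_apply, map_prod, map_prod,
      map_prod]
    simp only [Polynomial.coeToPowerSeries.ringHom_apply, Polynomial.coe_sub, Polynomial.coe_one, Polynomial.coe_mul,
      Polynomial.coe_C, Polynomial.coe_X, map_prod]
    rw [Finset.prod_comm]
    refine Finset.prod_congr rfl fun i _ => ?_
    simp only [hlin]
    rw [prod_one_sub_nthRoots hn0, map_sub, map_one, map_mul, expand_C, expand_X]
  ext m
  have := congrArg (coeff (n * m)) key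
  rwa [coeff_expand_mul, coeff_expand_mul] at this

theorem card_places_deg_one_constExt {ι : Type*} [Fintype ι] (α : ι → ℂ)
    (hα : PowerSeries.map (Int.castRingHom ℂ) (FunFld.numerZ k K) =
      ((∏ i, (1 - Polynomial.C (α i) * Polynomial.X) : Polynomial ℂ) : PowerSeries ℂ)) :
    (Nat.card {P : FunFld.Place k' K' // P.deg = 1} : ℂ) =
      1 + (Nat.card k : ℂ) ^ Module.finrank k k' - ∑ i, α i ^ Module.finrank k k' := by
  have h := congrArg (coeff 1) (numerZ_constExt hK hK' hce α hα)
  rw [coeff_one_prod, coeff_one_numerZ hK', Module.natCard_eq_pow_finrank (K := k) (V := k'), Nat.cast_pow] at h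
  linear_combination h

end Groth.Agent.H23Zeta
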