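import Mathlib
import Groth.Agent.H23Zeta.Count
import Groth.Agent.H23Curve.Basic

/-!
Stepanov's upper bound for twisted rational points, after Bombieri.
-/

set_option autoImplicit false
set_option linter.unusedSectionVars false
set_option linter.style.haveILetI false

namespace Groth.Agent.H23Zeta

open Groth.Agent.H23FunFld WithZero

variable {k E : Type*} [Field k] [Finite k] [Field E] [Algebra k E]

/-- The places at which `σ` induces the Frobenius of the constant field. -/
def frobFix (σ : E ≃ₐ[k] E) : Set (FunFld.Place k E) :=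
  {P | ∀ y : E, P.1 y ≤ 1 → P.1 (σ y - y ^ Nat.card k) < 1}

/-- The image of a place. -/
noncomputable def imPlace (σ : E ≃ₐ[k] E) (P : FunFld.Place k E) : FunFld.Place k E :=
  ⟨P.1.comap (σ : E →+* E), fun c => by
    change P.1 (σ (algebraMap k E c)) ≤ 1
    rw [σ.commutes]; exact P.2.1 c, fun a => by
    obtain ⟨x, hx⟩ := P.2.2 a
    exact ⟨σ.symm x, by change P.1 (σ (σ.symm x)) = a; rw [σ.apply_symm_apply, hx]⟩⟩

theorem imPlace_apply (σ : E ≃ₐ[k] E) (P : FunFld.Place k E) (x : E) : (imPlace σ P).1 x = P.1 (σ x) := rfl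

theorem frobFix_val {σ : E ≃ₐ[k] E} {P : FunFld.Place k E} (hP : P ∈ frobFix σ) : imPlace σ P = P := by
  refine (place_eq_of_le fun y hy => ?_).symm
  rw [imPlace_apply]
  have h1 : P.1 (y ^ Nat.card k) ≤ 1 := by rw [map_pow]; exact pow_le_one' hy _
  have h2 := (P.1.map_add (σ y - y ^ Nat.card k) (y ^ Nat.card k)).trans (max_le (hP y hy).le h1)
  rwa [sub_add_cancel] at h2

theorem deg_imPlace (σ : E ≃ₐ[k] E) (P : FunFld.Place k E) : (imPlace σ P).deg = P.deg := by
  let e : (imPlace σ P).O ≃+* P.O :=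
    { toFun := fun x => ⟨σ x, x.2⟩
      invFun := fun y => ⟨σ.symm y, by
        change P.1 (σ (σ.symm y)) ≤ 1
        rw [σ.apply_symm_apply]; exact y.2⟩
      left_inv := fun x => Subtype.ext (σ.symm_apply_apply x.1)
      right_inv := fun y => Subtype.ext (σ.apply_symm_apply y.1)
      map_mul' := fun x y => Subtype.ext (map_mul σ x.1 y.1)
      map_add' := fun x y => Subtype.ext (map_add σ x.1 y.1) }
  let ψ := IsLocalRing.ResidueField.mapEquiv e
  refine LinearEquiv.finrank_eq (LinearEquiv.ofBijective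
    ({ toFun := fun r => ψ r
       map_add' := fun a b => map_add ψ a b
       map_smul' := fun c a => ?_ } : IsLocalRing.ResidueField (imPlace σ P).O →ₗ[k] IsLocalRing.ResidueField P.O)
    ψ.bijective)
  obtain ⟨x, rfl⟩ := IsLocalRing.residue_surjective a
  change ψ (IsLocalRing.residue _ (algebraMap k (imPlace σ P).O c) * IsLocalRing.residue _ x) =
    IsLocalRing.residue _ (algebraMap k P.O c) * ψ (IsLocalRing.residue _ x)
  rw [map_mul]
  congr 1
  exact congrArg (IsLocalRing.residue P.O) (Subtype.ext (σ.commutes c))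

variable (hE : FunFld.IsFunctionField k E)
include hE

theorem finite_frobFix (σ : E ≃ₐ[k] E) {x : E} (hx : Transcendental k x) (hσ : σ x = x) :
    (frobFix σ).Finite := by
  have hx0 : x ≠ 0 := fun h => hx (h ▸ isAlgebraic_zero)
  set q := Nat.card k
  have hne : x - x ^ q ≠ 0 := fun h => by
    refine hx ⟨Polynomial.X - Polynomial.X ^ q, ?_, by simpa using h⟩
    intro h'
    have h'' := congrArg (fun p : Polynomial k => p.coeff 1) h'
    simp only [Polynomial.coeff_sub, Polynomial.coeff_X_one, Polynomial.coeff_X_pow, Polynomial.coeff_zero] at h''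
    rw [if_neg (Finite.one_lt_card (α := k)).ne, sub_zero] at h''
    exact one_ne_zero h''
  refine ((finite_zeros hE x⁻¹).union (finite_zeros hE (x - x ^ q))).subset fun P hP => ?_
  rcases lt_or_ge 0 (P.ord x⁻¹) with h | h
  · exact Or.inl h
  refine Or.inr ((val_lt_one_iff P hne).1 ?_)
  have h1 := hP x ((val_le_one_iff P hx0).2 (by rw [ord_inv] at h; omega))
  rwa [hσ] at h1

/-- Bombieri's bound. -/
theorem stepanov (σ : E ≃ₐ[k] E) {R : FunFld.Place k E} (hR : R.deg = 1) {r : ℕ} (hr : r * r = Nat.card k)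
    (hg : (FunFld.genus k E + 1) ^ 2 < r) (T : Finset (FunFld.Place k E)) (hT : ∀ P ∈ T, P ∈ frobFix σ) :
    ∑ P ∈ T, (P.deg : ℤ) ≤ (Nat.card k : ℤ) + (2 * FunFld.genus k E + 1) * r + 2 := by
  classical
  set g := FunFld.genus k E
  set Q := Nat.card k
  -- the characteristic
  obtain ⟨p, hp⟩ := CharP.exists k
  haveI hpf : Fact p.Prime := ⟨CharP.char_is_prime k p⟩
  obtain ⟨s, hs⟩ : ∃ s, r = p ^ s := by
    letI : Fintype k := Fintype.ofFinite k
    obtain ⟨a, -, ha⟩ := FiniteField.card k p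
    have hd : r ∣ p ^ (a : ℕ) := ⟨r, by rw [← ha, ← Nat.card_eq_fintype_card]; exact hr.symm⟩
    obtain ⟨s, -, hs⟩ := (Nat.dvd_prime_pow hpf.out).1 hd
    exact ⟨s, hs⟩
  haveI : CharP E p := charP_of_injective_algebraMap (algebraMap k E).injective p
  haveI : ExpChar E p := ExpChar.prime hpf.out
  set l := r - 1
  set n := r + 2 * g
  set R' := imPlace σ R
  have hR' : R'.deg = 1 := (deg_imPlace σ R).trans hR
  -- functions with distinct pole orders
  have hsingle : ∀ m : ℕ, 2 * g ≤ m + 1 → (FunFld.ell (Finsupp.single R (m : ℤ) : FunFld.Divisor k E) : ℤ) = (m : ℤ) + 1 - g := by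
    intro m hm
    have h := ell_of_deg_large hE (D := Finsupp.single R (m : ℤ)) (by rw [deg_single, hR]; push_cast; omega)
    rw [h, deg_single, hR]
    push_cast
    ring
  have horders : ∃ b : Fin (n + 1 - g) → E, ∃ o : Fin (n + 1 - g) → ℕ, Function.Injective o ∧
      (∀ j, b j ≠ 0) ∧ (∀ j, b j ∈ FunFld.L (Finsupp.single R (n : ℤ))) ∧ ∀ j, R.ord (b j) = -(o j : ℤ) := by
    set Nset := (Finset.range (n + 1)).filter fun m => ¬ (1 ≤ m ∧ H23Curve.IsGap R m)
    have hcard : Nset.card = n + 1 - g := by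
      have h1 := H23Curve.card_gaps hE hR n
      have h2 := hsingle n (by omega)
      have e : Nset = Finset.range (n + 1) \ ((Finset.Icc 1 n).filter fun m => H23Curve.IsGap R m) := by
        ext m
        simp only [Nset, Finset.mem_filter, Finset.mem_range, Finset.mem_sdiff, Finset.mem_Icc]
        refine and_congr_right fun hm => not_congr ⟨fun h => ⟨⟨h.1, by omega⟩, h.2⟩, fun h => ⟨h.1.1, h.2⟩⟩
      rw [e, Finset.card_sdiff_of_subset (fun m hm => by simp only [Finset.mem_filter, Finset.mem_Icc] at hm; simp; omega),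
        Finset.card_range]
      omega
    have hex : ∀ m : Nset, ∃ z : E, z ≠ 0 ∧ z ∈ FunFld.L (Finsupp.single R (n : ℤ)) ∧ R.ord z = -((m : ℕ) : ℤ) := by
      rintro ⟨m, hm⟩
      simp only [Nset, Finset.mem_filter, Finset.mem_range, not_and] at hm
      rcases Nat.eq_zero_or_pos m with rfl | hm0
      · refine ⟨1, one_ne_zero, fun P => ?_, by simp [FunFld.Place.ord]⟩
        rw [map_one, ← exp_zero, exp_le_exp, Finsupp.single_apply]
        split <;> omega
      · obtain ⟨z, hz0, hz, hzo⟩ := H23Curve.exists_ord_of_ne hE (hm.2 hm0)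
        exact ⟨z, hz0, L_mono (Finsupp.single_mono (by omega)) hz, hzo⟩
    choose z hz0 hz hzo using hex
    let e := (Finset.equivFinOfCardEq hcard).symm
    exact ⟨fun j => z (e j), fun j => ((e j : Nset) : ℕ), fun a b h => e.injective (Subtype.ext h),
      fun j => hz0 _, fun j => hz _, fun j => hzo _⟩
  obtain ⟨b, o, ho, hb0, hb, hbo⟩ := horders
  -- a relation
  haveI := finiteDimensional_L hE (Finsupp.single R (l : ℤ) : FunFld.Divisor k E)
  haveI : Finite (FunFld.L (Finsupp.single R (l : ℤ) : FunFld.Divisor k E)) := Module.finite_of_finite k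
  haveI := finiteDimensional_L hE (Finsupp.single R ((l * r + n : ℕ) : ℤ) : FunFld.Divisor k E)
  haveI : Finite (FunFld.L (Finsupp.single R ((l * r + n : ℕ) : ℤ) : FunFld.Divisor k E)) := Module.finite_of_finite k
  have hmem : ∀ a : Fin (n + 1 - g) → FunFld.L (Finsupp.single R (l : ℤ) : FunFld.Divisor k E),
      ∑ j, (a j : E) ^ r * b j ∈ FunFld.L (Finsupp.single R ((l * r + n : ℕ) : ℤ) : FunFld.Divisor k E) := by
    intro a
    refine Submodule.sum_mem _ fun j _ => L_mono ?_ (mul_mem_L (pow_mem_L (a j).2 r) (hb j))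
    rw [Finsupp.smul_single, nsmul_eq_mul, ← Finsupp.single_add]
    exact Finsupp.single_mono (by push_cast; linarith)
  obtain ⟨a, ha0, ha⟩ : ∃ a : Fin (n + 1 - g) → E, a ≠ 0 ∧ (∀ j, a j ∈ FunFld.L (Finsupp.single R (l : ℤ))) ∧
      ∑ j, a j ^ r * b j = 0 := by
    obtain ⟨a₁, a₂, heq, hne⟩ : ∃ a₁ a₂ : Fin (n + 1 - g) → FunFld.L (Finsupp.single R (l : ℤ) : FunFld.Divisor k E),
        ∑ j, (a₁ j : E) ^ r * b j = ∑ j, (a₂ j : E) ^ r * b j ∧ a₁ ≠ a₂ := by
      by_contra hno
      push Not at hno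
      have hinj : Function.Injective (fun a => (⟨_, hmem a⟩ : FunFld.L (Finsupp.single R ((l * r + n : ℕ) : ℤ) : FunFld.Divisor k E))) :=
        fun a₁ a₂ h => hno a₁ a₂ (congrArg Subtype.val h)
      have h1 := Nat.card_le_card_of_injective _ hinj
      rw [Nat.card_fun,
        Module.natCard_eq_pow_finrank (K := k) (V := FunFld.L (Finsupp.single R (l : ℤ) : FunFld.Divisor k E)),
        Module.natCard_eq_pow_finrank (K := k) (V := FunFld.L (Finsupp.single R ((l * r + n : ℕ) : ℤ) : FunFld.Divisor k E)),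
        Nat.card_eq_fintype_card (α := Fin (n + 1 - g)), Fintype.card_fin, ← pow_mul,
        pow_le_pow_iff_right₀ Finite.one_lt_card] at h1
      change FunFld.ell _ * _ ≤ FunFld.ell _ at h1
      have h2 := hsingle (l * r + n) (by omega)
      have h3 := ell_ge hE (Finsupp.single R (l : ℤ) : FunFld.Divisor k E)
      rw [deg_single, hR] at h3
      generalize hA : FunFld.ell (Finsupp.single R (l : ℤ) : FunFld.Divisor k E) = A at h1 h3
      generalize hB : FunFld.ell (Finsupp.single R ((l * r + n : ℕ) : ℤ) : FunFld.Divisor k E) = B at h1 h2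
      push_cast at h2 h3
      zify [show g ≤ n + 1 by omega] at h1
      have hl : (l : ℤ) = r - 1 := by omega
      have hr0 : ((g : ℤ) + 1) ^ 2 < r := by exact_mod_cast hg
      have h4 : ((l : ℤ) + 1 - g) * ((n : ℤ) + 1 - g) ≤
          (A : ℤ) * ((n : ℤ) + 1 - g) :=
        mul_le_mul_of_nonneg_right (by linarith) (by omega)
      rw [hl, show (n : ℤ) = r + 2 * g by simp [n]] at h2 h4
      rw [show (n : ℤ) = r + 2 * g by simp [n]] at h1
      nlinarith
    refine ⟨fun j => (a₁ j : E) - a₂ j, fun h => hne (funext fun j => Subtype.ext (sub_eq_zero.1 (congrFun h j))),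
      fun j => Submodule.sub_mem _ (a₁ j).2 (a₂ j).2, ?_⟩
    simp only [hs, sub_pow_expChar_pow, sub_mul, Finset.sum_sub_distrib]
    rw [← hs, heq, sub_self]
  set b' := fun j => σ.symm (b j)
  have hb'0 : ∀ j, b' j ≠ 0 := fun j => by simpa [b'] using hb0 j
  set G := ∑ j, a j * b' j ^ r with hG
  have hb'v : ∀ (P : FunFld.Place k E) j, (imPlace σ P).1 (b' j) = P.1 (b j) := fun P j => by
    rw [imPlace_apply, σ.apply_symm_apply]
  -- it is nonzero
  have hrange : ∀ j, a j ≠ 0 → (R' = R → -(l : ℤ) ≤ R'.ord (a j) ∧ R'.ord (a j) ≤ 0) ∧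
      (R' ≠ R → 0 ≤ R'.ord (a j) ∧ R'.ord (a j) ≤ l) := by
    intro j hj
    have hdeg : (FunFld.div k (a j) + Finsupp.single R (l : ℤ)).deg = l := by
      rw [deg_add, deg_div hE, deg_single, hR]; push_cast; ring
    have hnn : 0 ≤ FunFld.div k (a j) + Finsupp.single R (l : ℤ) := by
      rw [add_comm]; exact (mem_L_iff_div hE hj).1 (ha.1 j)
    have hle : ∀ P, (FunFld.div k (a j) + Finsupp.single R (l : ℤ) : FunFld.Divisor k E) P * P.deg ≤ l := fun P => by
      by_cases hP : P ∈ (FunFld.div k (a j) + Finsupp.single R (l : ℤ)).support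
      · refine le_of_le_of_eq ?_ hdeg
        exact Finset.single_le_sum (f := fun S => (FunFld.div k (a j) + Finsupp.single R (l : ℤ) : FunFld.Divisor k E) S * (S.deg : ℤ))
          (fun S _ => mul_nonneg (hnn S) (Int.natCast_nonneg _)) hP
      · rw [Finsupp.notMem_support_iff.1 hP]; omega
    have h1 := hle R'
    have h2 := hnn R'
    rw [hR', Nat.cast_one, mul_one, Finsupp.add_apply, div_apply hE] at h1
    rw [Finsupp.coe_zero, Pi.zero_apply, Finsupp.add_apply, div_apply hE] at h2
    refine ⟨fun he => ?_, fun he => ?_⟩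
    · rw [he, Finsupp.single_eq_same] at h1 h2; rw [he]; omega
    · rw [Finsupp.single_eq_of_ne he] at h1 h2; omega
  have hG0 : G ≠ 0 := by
    obtain ⟨j₁, hj₁⟩ : ∃ j, a j ≠ 0 := by
      by_contra h
      push Not at h
      exact ha0 (funext h)
    have hterm : ∀ j, a j ≠ 0 → R'.1 (a j * b' j ^ r) = exp (-R'.ord (a j) + (r : ℤ) * (-R'.ord (b' j))) := fun j hj => by
      rw [map_mul, map_pow, val_eq_exp R' hj, val_eq_exp R' (hb'0 j), ← exp_nsmul, ← exp_add, nsmul_eq_mul]
    have hbord : ∀ j, R'.ord (b' j) = R.ord (b j) := fun j => by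
      have hne := hb'0 j
      have : exp (-(imPlace σ R).ord (b' j)) = exp (-R.ord (b j)) := by
        rw [← val_eq_exp _ hne, ← val_eq_exp R (hb0 j), hb'v]
      rw [exp_inj] at this
      simp only [R']
      omega
    obtain ⟨j₀, hj₀, hmax⟩ := Finset.exists_max_image (Finset.univ.filter fun j => a j ≠ 0) o
      ⟨j₁, Finset.mem_filter.2 ⟨Finset.mem_univ _, hj₁⟩⟩
    have hj₀' : a j₀ ≠ 0 := (Finset.mem_filter.1 hj₀).2
    intro h0
    have h := congrArg R'.1 h0
    rw [hG, ← Finset.add_sum_erase _ _ (Finset.mem_univ j₀), map_zero, R'.1.map_add_eq_of_lt_left, hterm j₀ hj₀'] at h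
    · exact exp_ne_zero h
    rw [hterm j₀ hj₀']
    refine R'.1.map_sum_lt exp_ne_zero fun j hj => ?_
    rcases eq_or_ne (a j) 0 with h1 | h1
    · rw [h1, zero_mul, map_zero]; exact zero_lt_iff.2 exp_ne_zero
    rw [hterm j h1, exp_lt_exp, hbord, hbord, hbo, hbo, neg_neg, neg_neg]
    have hlt : o j < o j₀ := lt_of_le_of_ne (hmax j (Finset.mem_filter.2 ⟨Finset.mem_univ _, h1⟩))
      fun e => (Finset.mem_erase.1 hj).1 (ho e)
    have hlt' : (r : ℤ) * o j + r ≤ r * o j₀ := by
      have : (o j : ℤ) + 1 ≤ o j₀ := by omega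
      nlinarith
    rcases eq_or_ne R' R with he | he
    · have := (hrange j h1).1 he; have := (hrange j₀ hj₀').1 he; omega
    · have := (hrange j h1).2 he; have := (hrange j₀ hj₀').2 he; omega
  -- its zeros and poles
  have hFp : ∀ P ∈ T, P ≠ R → 0 < P.ord G := by
    intro P hP hPR
    have hint : ∀ j, P.1 (a j) ≤ 1 ∧ P.1 (b' j) ≤ 1 := fun j => by
      refine ⟨by simpa [Finsupp.single_eq_of_ne hPR] using ha.1 j P, ?_⟩
      rw [← frobFix_val (hT P hP), hb'v]
      simpa [Finsupp.single_eq_of_ne hPR] using hb j P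
    refine (val_lt_one_iff P hG0).1 ?_
    have hpow : G ^ r - ∑ j, a j ^ r * b j = ∑ j, a j ^ r * (b' j ^ Q - b j) := by
      rw [hG, hs, sum_pow_char_pow, ← Finset.sum_sub_distrib]
      refine Finset.sum_congr rfl fun j _ => ?_
      rw [mul_pow, ← pow_mul, ← hs, hr]
      ring
    rw [ha.2, sub_zero] at hpow
    have hlt : P.1 (G ^ r) < 1 := by
      rw [hpow]
      refine P.1.map_sum_lt one_ne_zero fun j _ => ?_
      rw [map_mul, map_pow]
      refine (mul_le_of_le_one_left zero_le (pow_le_one' (hint j).1 r)).trans_lt ?_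
      have := hT P hP (b' j) (hint j).2
      rwa [σ.apply_symm_apply, ← P.1.map_neg, neg_sub] at this
    rw [map_pow] at hlt
    by_contra h1
    exact absurd hlt (not_lt.2 (one_le_pow_of_one_le' (not_lt.1 h1) r))
  set D : FunFld.Divisor k E := Finsupp.single R (l : ℤ) + Finsupp.single R' ((n * r : ℕ) : ℤ)
  have hnn : 0 ≤ FunFld.div k G + D := by
    rw [add_comm]
    refine (mem_L_iff_div hE hG0).1 (Submodule.sum_mem _ fun j _ => mul_mem_L (ha.1 j) ?_)
    have : b' j ∈ FunFld.L (Finsupp.single R' (n : ℤ)) := fun P => by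
      have h1 := hb j (imPlace σ.symm P)
      have e : imPlace σ (imPlace σ.symm P) = P := Subtype.ext (Valuation.ext fun z => by
        rw [imPlace_apply, imPlace_apply, σ.symm_apply_apply])
      rw [← hb'v, e] at h1
      refine h1.trans (le_of_eq ?_)
      rcases eq_or_ne P R' with rfl | hP
      · rw [Finsupp.single_eq_same, show imPlace σ.symm (imPlace σ R) = R from Subtype.ext (Valuation.ext fun z => by
          rw [imPlace_apply, imPlace_apply, σ.apply_symm_apply]), Finsupp.single_eq_same]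
      · rw [Finsupp.single_eq_of_ne hP, Finsupp.single_eq_of_ne fun h => hP ?_]
        rw [← e, h]
    refine L_mono ?_ (pow_mem_L this r)
    rw [Finsupp.smul_single, nsmul_eq_mul]
    exact Finsupp.single_mono (by push_cast; linarith)
  have hdeg : (FunFld.div k G + D).deg = l + n * r := by
    simp only [D, deg_add, deg_div hE, deg_single, hR, hR']; push_cast; ring
  set T₀ := T.filter fun P => P ≠ R ∧ P ≠ R'
  have hT₀ : ∑ P ∈ T₀, (P.deg : ℤ) ≤ l + n * r := by
    rw [← hdeg, show (FunFld.div k G + D).deg = (FunFld.div k G + D).sum (fun P m => m * (P.deg : ℤ)) from rfl,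
      Finsupp.sum_of_support_subset _ (Finset.subset_union_left (s₂ := T₀)) _ (fun P _ => by simp)]
    refine le_trans ?_ (Finset.sum_le_sum_of_subset_of_nonneg Finset.subset_union_right
      fun P _ _ => mul_nonneg (hnn P) (Int.natCast_nonneg _))
    refine Finset.sum_le_sum fun P hP => le_mul_of_one_le_left (Int.natCast_nonneg _) ?_
    obtain ⟨hPT, hPR, hPR'⟩ := Finset.mem_filter.1 hP
    rw [Finsupp.add_apply, div_apply hE]
    simp only [D, Finsupp.add_apply, Finsupp.single_eq_of_ne hPR, Finsupp.single_eq_of_ne hPR']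
    have := hFp P hPT hPR
    omega
  have hrest : ∑ P ∈ T \ T₀, (P.deg : ℤ) ≤ 2 := by
    refine (Finset.sum_le_sum_of_subset_of_nonneg (t := ({R, R'} : Finset (FunFld.Place k E))) (fun P hP => ?_)
      fun P _ _ => Int.natCast_nonneg _).trans ?_
    · simp only [T₀, Finset.mem_sdiff, Finset.mem_filter] at hP
      simp only [Finset.mem_insert, Finset.mem_singleton]
      tauto
    · rcases eq_or_ne R R' with h | h
      · rw [← h]; simp [hR]
      · rw [Finset.sum_pair h, hR, hR']; norm_num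
  rw [← Finset.sum_sdiff (Finset.filter_subset _ T : T₀ ⊆ T)]
  have hl : (l : ℤ) = r - 1 := by omega
  have hQ : (r : ℤ) * r = Q := by exact_mod_cast hr
  have hn' : (n : ℤ) = r + 2 * g := by simp [n]
  rw [hl, hn'] at hT₀
  nlinarith

end Groth.Agent.H23Zeta
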