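import Mathlib
import Groth.Agent.H23Ext.Galois
import Groth.Agent.H23Zeta.Stepanov

/-!
Counting Frobenius elements in a Galois extension of function fields over a finite field.
-/

set_option autoImplicit false
set_option linter.unusedSectionVars false
set_option linter.style.haveILetI false

namespace Groth.Agent.H23Zeta

open Groth.Agent.H23FunFld Groth.Agent.H23Ext Polynomial

variable {k F E : Type*} [Field k] [Finite k] [Field F] [Field E] [Algebra k F] [Algebra F E] [Algebra k E]
  [IsScalarTower k F E] [FiniteDimensional F E] [IsGalois F E]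
  (hF : FunFld.IsFunctionField k F) (hE : FunFld.IsFunctionField k E)
include hF hE

omit hE in
theorem residue_mem_range {p : FunFld.Place k F} (hp : p.deg = 1) {z : F} (hz : p.1 z ≤ 1) :
    ∃ c : k, p.1 (z - algebraMap k F c) < 1 := by
  have hbij : Function.Surjective (algebraMap k (IsLocalRing.ResidueField p.O)) := by
    have h1 : Module.finrank k (IsLocalRing.ResidueField p.O) = 1 := hp
    intro r
    obtain ⟨c, hc⟩ := (finrank_eq_one_iff_of_nonzero' (1 : IsLocalRing.ResidueField p.O) one_ne_zero).1 h1 r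
    refine ⟨c, ?_⟩
    rw [← hc]
    exact (mul_one _).symm
  obtain ⟨c, hc⟩ := hbij (IsLocalRing.residue p.O ⟨z, hz⟩)
  refine ⟨c, ?_⟩
  have h0 : IsLocalRing.residue p.O (⟨z, hz⟩ - algebraMap k p.O c) = 0 := by
    rw [map_sub, sub_eq_zero]; exact hc.symm
  rw [IsLocalRing.residue_eq_zero_iff, ValuationSubring.valuation_lt_one_iff,
    ← p.1.isEquiv_valuation_valuationSubring.lt_one_iff_lt_one] at h0
  exact h0

theorem below_deg_one {σ : E ≃ₐ[F] E} {P : FunFld.Place k E} {p : FunFld.Place k F}
    (hP : P ∈ frobFix (σ.restrictScalars k)) (h : FunFld.IsOver P p) : p.deg = 1 := by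
  classical
  haveI hfin := finiteDimensional_residueField hF p
  haveI : Finite (IsLocalRing.ResidueField p.O) := @Module.finite_of_finite k _ _ _ _ _ hfin
  haveI : Fintype (IsLocalRing.ResidueField p.O) := Fintype.ofFinite _
  have hQ : 1 < Nat.card k := Finite.one_lt_card
  obtain ⟨e, he⟩ := h
  have hroot : ∀ r : IsLocalRing.ResidueField p.O, r ^ Nat.card k = r := by
    intro r
    obtain ⟨⟨z, hz⟩, rfl⟩ := IsLocalRing.residue_surjective r
    have hz' : p.1 z ≤ 1 := hz
    have h1 := hP (algebraMap F E z) (by rw [he]; exact pow_le_one' hz' _)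
    rw [AlgEquiv.restrictScalars_apply, σ.commutes, ← map_pow, ← map_sub, he] at h1
    have h2 : p.1 (z - z ^ Nat.card k) < 1 := by
      by_contra h3
      exact absurd h1 (not_lt.2 (one_le_pow_of_one_le' (not_lt.1 h3) e))
    have h0 : IsLocalRing.residue p.O ((⟨z, hz⟩ : p.O) - ⟨z, hz⟩ ^ Nat.card k) = 0 := by
      rw [IsLocalRing.residue_eq_zero_iff, ValuationSubring.valuation_lt_one_iff,
        ← p.1.isEquiv_valuation_valuationSubring.lt_one_iff_lt_one]
      exact h2
    rw [map_sub, map_pow, sub_eq_zero] at h0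
    exact h0.symm
  have hcard : Fintype.card (IsLocalRing.ResidueField p.O) ≤ Nat.card k := by
    have hsub : (Finset.univ : Finset (IsLocalRing.ResidueField p.O)) ⊆
        ((X ^ Nat.card k - X : (IsLocalRing.ResidueField p.O)[X]).roots.toFinset) := fun r _ => by
      rw [Multiset.mem_toFinset, mem_roots (FiniteField.X_pow_card_sub_X_ne_zero _ hQ)]
      simp [hroot r]
    exact (Finset.card_le_card hsub).trans ((Multiset.toFinset_card_le _).trans ((card_roots' _).trans
      (FiniteField.X_pow_card_sub_X_natDegree_eq _ hQ).le))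
  rw [← Nat.card_eq_fintype_card, @Module.natCard_eq_pow_finrank k _ _ _ _ hfin] at hcard
  have h1 : Module.finrank k (IsLocalRing.ResidueField p.O) ≤ 1 :=
    (pow_le_pow_iff_right₀ hQ).1 (hcard.trans (pow_one _).ge)
  have := deg_pos hF p
  unfold FunFld.Place.deg at this ⊢
  omega

/-- The elements inducing the Frobenius at a place are as many as the ramification index. -/
theorem card_frobenius {P : FunFld.Place k E} {p : FunFld.Place k F} (hp : p.deg = 1) (h : FunFld.IsOver P p) :
    Nat.card {σ : E ≃ₐ[F] E // P ∈ frobFix (σ.restrictScalars k)} = FunFld.ramIdx P p := by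
  classical
  haveI hfin := finiteDimensional_residueField hE P
  haveI : Finite (IsLocalRing.ResidueField P.O) := @Module.finite_of_finite k _ _ _ _ _ hfin
  set Q := Nat.card k
  have hQ : 1 < Q := Finite.one_lt_card
  -- a residue generator
  obtain ⟨η, hη, hη0⟩ : ∃ η : IsLocalRing.ResidueField P.O, IntermediateField.adjoin k {η} = ⊤ ∧ η ≠ 0 := by
    obtain ⟨η, hη⟩ := @Field.exists_primitive_element_of_finite_top k _ (IsLocalRing.ResidueField P.O) _ (FunFld.Place.algRes P) _
    rcases eq_or_ne η 0 with rfl | h0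
    · refine ⟨1, ?_, one_ne_zero⟩
      rw [← hη, IntermediateField.adjoin_simple_eq_bot_iff.2 (one_mem _), IntermediateField.adjoin_simple_eq_bot_iff.2 (zero_mem _)]
    · exact ⟨η, hη, h0⟩
  have hint : IsIntegral k η :=
    (@Algebra.IsIntegral.of_finite k _ _ _ _ hfin).isIntegral η
  have hadj : ∀ r : IsLocalRing.ResidueField P.O, ∃ g : k[X], aeval η g = r := fun r => by
    have hr : r ∈ IntermediateField.adjoin k ({η} : Set (IsLocalRing.ResidueField P.O)) := by rw [hη]; trivial
    rw [← IntermediateField.mem_toSubalgebra, IntermediateField.adjoin_simple_toSubalgebra_of_isAlgebraic hint.isAlgebraic] at hr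
    rw [Algebra.adjoin_singleton_eq_range_aeval] at hr
    exact hr
  set f := (minpoly k η).natDegree
  have hf : f = P.deg := by
    have h1 := IntermediateField.adjoin.finrank hint
    rw [hη, IntermediateField.finrank_top'] at h1
    exact h1.symm
  obtain ⟨⟨y₀, hy₀⟩, rfl⟩ := IsLocalRing.residue_surjective η
  -- an integral lift small at the other places
  set S := (finite_isOver (K' := E) hF p).toFinset
  have hS : ∀ R, R ∈ S ↔ FunFld.IsOver R p := fun R => Set.Finite.mem_toFinset _
  obtain ⟨y, hy⟩ := approximation S (fun R => if R = P then y₀ else 0) (fun _ => -1)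
  have hlt : (WithZero.exp (-1 : ℤ)) < (1 : WithZero (Multiplicative ℤ)) := by
    rw [← WithZero.exp_zero, WithZero.exp_lt_exp]; omega
  have hyP : P.1 (y - y₀) < 1 := by
    have := (hy P ((hS P).2 h)).trans_lt hlt
    simpa using this
  have hyR : ∀ R, FunFld.IsOver R p → R ≠ P → R.1 y < 1 := fun R hR hne => by
    have := (hy R ((hS R).2 hR)).trans_lt hlt
    simpa [hne] using this
  have hyint : ∀ R, FunFld.IsOver R p → R.1 y ≤ 1 := fun R hR => by
    rcases eq_or_ne R P with rfl | hne
    · have := (R.1.map_add (y - y₀) y₀).trans (max_le hyP.le hy₀)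
      rwa [sub_add_cancel] at this
    · exact (hyR R hR hne).le
  have hover : ∀ σ : E ≃ₐ[F] E, FunFld.IsOver (conj σ P) p := fun σ => ⟨_, isOverWith_conj h.choose_spec σ⟩
  have hσy : ∀ σ : E ≃ₐ[F] E, P.1 (σ y) ≤ 1 := fun σ => hyint _ (hover σ)
  let ρ : (E ≃ₐ[F] E) → IsLocalRing.ResidueField P.O := fun σ => IsLocalRing.residue P.O ⟨σ y, hσy σ⟩
  set η := IsLocalRing.residue P.O ⟨y₀, hy₀⟩
  have hres : ∀ {a b : E} (ha : P.1 a ≤ 1) (hb : P.1 b ≤ 1), IsLocalRing.residue P.O ⟨a, ha⟩ = IsLocalRing.residue P.O ⟨b, hb⟩ ↔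
      P.1 (a - b) < 1 := fun {a b} ha hb => by
    rw [← sub_eq_zero, ← map_sub, IsLocalRing.residue_eq_zero_iff, ValuationSubring.valuation_lt_one_iff,
      ← P.1.isEquiv_valuation_valuationSubring.lt_one_iff_lt_one]
    rfl
  have hρ1 : ρ 1 = η := (hres _ _).2 (by simpa using hyP)
  set D := P.O.decompositionSubgroup F
  have hD : ∀ {σ : E ≃ₐ[F] E}, σ ∈ D → ∀ z : E, P.1 (σ z) = P.1 z := fun {σ} hσ z => by
    rw [← conj_apply, mem_decomposition.1 hσ]
  have htrans : ∀ (σ : E ≃ₐ[F] E) (hσ : σ ∈ D), ∀ g : k[X], ∀ {z : E} (hz : P.1 z ≤ 1), IsLocalRing.residue P.O ⟨z, hz⟩ = aeval η g →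
      IsLocalRing.residue P.O ⟨σ z, (hD hσ z).trans_le hz⟩ = aeval (ρ σ) g := by
    intro σ hσ g z hz he
    have hcoe : ∀ (w : E) (hw : P.1 w ≤ 1), ∃ h' : P.1 (aeval w g) ≤ 1,
        IsLocalRing.residue P.O ⟨aeval w g, h'⟩ = aeval (IsLocalRing.residue P.O ⟨w, hw⟩) g := by
      intro w hw
      have e : aeval w g = ((aeval (⟨w, hw⟩ : P.O) g : P.O) : E) := by
        change _ = P.O.subtype (aeval (⟨w, hw⟩ : P.O) g)
        rw [aeval_def, aeval_def, hom_eval₂]
        rfl
      refine ⟨e ▸ (aeval (⟨w, hw⟩ : P.O) g).2, ?_⟩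
      rw [show (⟨aeval w g, e ▸ (aeval (⟨w, hw⟩ : P.O) g).2⟩ : P.O) = aeval (⟨w, hw⟩ : P.O) g from Subtype.ext e,
        aeval_def, aeval_def, hom_eval₂]
      rfl
    obtain ⟨h1, h2⟩ := hcoe y (hyint P h)
    have e : aeval η g = IsLocalRing.residue P.O ⟨aeval y g, h1⟩ := by
      rw [h2]
      exact congrArg (fun w => aeval w g) ((hres _ _).2 hyP).symm
    rw [e, hres hz h1] at he
    obtain ⟨h3, h4⟩ := hcoe (σ y) (hσy σ)
    have e2 : aeval (σ y) g = σ (aeval y g) := aeval_algHom_apply (σ.toAlgHom.restrictScalars k) y g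
    rw [← h4, hres _ h3, e2, ← map_sub, hD hσ]
    exact he
  -- membership
  have hmem : ∀ σ : E ≃ₐ[F] E, P ∈ frobFix (σ.restrictScalars k) ↔ σ ∈ D ∧ ρ σ = η ^ Q := by
    intro σ
    constructor
    · intro hσ
      refine ⟨mem_decomposition.2 (by
        have := frobFix_val hσ
        exact Subtype.ext (Valuation.ext fun z => DFunLike.congr_fun (congrArg Subtype.val this) z)), ?_⟩
      have h1 := hσ y (hyint P h)
      rw [AlgEquiv.restrictScalars_apply] at h1
      have hyQ : P.1 (y ^ Q) ≤ 1 := by rw [map_pow]; exact pow_le_one' (hyint P h) _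
      rw [show η ^ Q = IsLocalRing.residue P.O ⟨y ^ Q, hyQ⟩ by rw [← hρ1, ← map_pow]; rfl]
      exact (hres _ _).2 h1
    · rintro ⟨hσD, hσ⟩ z hz
      rw [AlgEquiv.restrictScalars_apply]
      obtain ⟨g, hg⟩ := hadj (IsLocalRing.residue P.O ⟨z, hz⟩)
      have h1 := htrans σ hσD g hz hg.symm
      have hzQ : P.1 (z ^ Q) ≤ 1 := by rw [map_pow]; exact pow_le_one' hz _
      have h2 : IsLocalRing.residue P.O ⟨z ^ Q, hzQ⟩ = aeval (η ^ Q) g := by
        rw [show (⟨z ^ Q, hzQ⟩ : P.O) = (⟨z, hz⟩ : P.O) ^ Q from rfl, map_pow, ← hg]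
        letI : Fintype k := Fintype.ofFinite k
        rw [← map_pow, show Q = Fintype.card k from Nat.card_eq_fintype_card, ← FiniteField.expand_card, expand_aeval]
      rw [← hres ((hD hσD z).trans_le hz) hzQ, h1, h2, hσ]
  -- a Frobenius element
  obtain ⟨φ, hφ⟩ : ∃ φ : E ≃ₐ[F] E, φ ∈ D ∧ ρ φ = η ^ Q := by
    let pO : (IsLocalRing.ResidueField P.O)[X] := ∏ σ : E ≃ₐ[F] E, (X - C (ρ σ))
    let fO : P.O[X] := ∏ σ : E ≃ₐ[F] E, (X - C (⟨σ y, hσy σ⟩ : P.O))
    have hmapO : fO.map (IsLocalRing.residue P.O) = pO := by simp [fO, pO, Polynomial.map_prod, ρ]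
    have hcoef : ∀ i, ∃ c : k, pO.coeff i = algebraMap k _ c := by
      intro i
      have hfix : ∀ τ : E ≃ₐ[F] E, τ ((fO.coeff i : P.O) : E) = ((fO.coeff i : P.O) : E) := by
        intro τ
        set fE := fO.map P.O.subtype with hfE
        have e : fE = ∏ σ : E ≃ₐ[F] E, (X - C (σ y)) := by simp [hfE, fO, Polynomial.map_prod]
        have e2 : fE.map (τ : E →+* E) = fE := by
          rw [e, Polynomial.map_prod]
          refine Fintype.prod_equiv (Equiv.mulLeft τ) _ _ fun σ => ?_
          simp [AlgEquiv.mul_apply]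
        have h3 := congrArg (fun q : E[X] => q.coeff i) e2
        simp only [hfE, coeff_map] at h3
        exact h3
      obtain ⟨z, hz⟩ := (IsGalois.mem_range_algebraMap_iff_fixed _).2 hfix
      obtain ⟨e, he⟩ := h
      have hzp : p.1 z ≤ 1 := by
        have h1 : P.1 (algebraMap F E z) ≤ 1 := hz ▸ (fO.coeff i).2
        rw [he] at h1
        exact (pow_le_one_iff (IsOverWith.pos he).ne').1 h1
      obtain ⟨c, hc⟩ := residue_mem_range hF hp hzp
      refine ⟨c, ?_⟩
      rw [← hmapO, coeff_map]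
      change IsLocalRing.residue P.O (fO.coeff i) = IsLocalRing.residue P.O (algebraMap k P.O c)
      refine (hres (fO.coeff i).2 (P.2.1 c)).2 ?_
      rw [IsScalarTower.algebraMap_apply k F E, ← hz, ← map_sub, he]
      exact pow_lt_one' hc (IsOverWith.pos he).ne'
    choose c hc using hcoef
    have hroot : pO.eval η = 0 := by
      rw [eval_prod]
      exact Finset.prod_eq_zero (Finset.mem_univ 1) (by simp [hρ1])
    have hrootQ : pO.eval (η ^ Q) = 0 := by
      let p₀ : k[X] := ∑ i ∈ Finset.range (pO.natDegree + 1), C (c i) * X ^ i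
      have hp₀ : p₀.map (algebraMap k _) = pO := by
        conv_rhs => rw [pO.as_sum_range_C_mul_X_pow]
        simp [p₀, Polynomial.map_sum, hc]
      rw [← hp₀, eval_map, ← aeval_def] at hroot ⊢
      letI : Fintype k := Fintype.ofFinite k
      rw [show Q = Fintype.card k from Nat.card_eq_fintype_card, ← expand_aeval, FiniteField.expand_card, map_pow, hroot,
        zero_pow Fintype.card_ne_zero]
    rw [eval_prod, Finset.prod_eq_zero_iff] at hrootQ
    obtain ⟨φ, -, hφ⟩ := hrootQ
    rw [eval_sub, eval_X, eval_C, sub_eq_zero] at hφ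
    refine ⟨φ, ?_, hφ.symm⟩
    rw [mem_decomposition]
    by_contra hne
    have h0 : ρ φ = 0 := by
      change IsLocalRing.residue P.O ⟨φ y, hσy φ⟩ = 0
      rw [IsLocalRing.residue_eq_zero_iff, ValuationSubring.valuation_lt_one_iff,
        ← P.1.isEquiv_valuation_valuationSubring.lt_one_iff_lt_one]
      exact hyR _ (hover φ) hne
    exact hη0 (eq_zero_of_pow_eq_zero (hφ.trans h0))
  -- the fibres over the automorphisms of the residue field
  set Dset := (Finset.univ : Finset (E ≃ₐ[F] E)).filter fun σ => σ ∈ D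
  have hDset : ∀ σ, σ ∈ Dset ↔ σ ∈ D := fun σ => by simp [Dset]
  set I := Dset.filter fun σ => ρ σ = η
  have hfib : ∀ σ ∈ Dset, (Dset.filter fun τ => ρ τ = ρ σ).card = I.card := by
    intro σ hσ
    rw [hDset] at hσ
    have key : ∀ τ : E ≃ₐ[F] E, ρ (σ * τ) = ρ σ ↔ ρ τ = η := fun τ => by
      rw [← hρ1, hres (hσy _) (hσy _), hres (hσy _) (hσy _), AlgEquiv.mul_apply, ← map_sub, hD hσ]
      rfl
    symm
    refine Finset.card_bij (fun τ _ => σ * τ) (fun τ hτ => ?_) (fun a _ b _ e => mul_left_cancel e) (fun τ hτ => ?_)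
    · simp only [I, Finset.mem_filter, hDset] at hτ ⊢
      exact ⟨mul_mem hσ hτ.1, (key τ).2 hτ.2⟩
    · simp only [I, Finset.mem_filter, hDset] at hτ ⊢
      exact ⟨σ⁻¹ * τ, ⟨mul_mem (inv_mem hσ) hτ.1, (key _).1 (by rw [mul_inv_cancel_left]; exact hτ.2)⟩, mul_inv_cancel_left _ _⟩
  have himage : (Dset.image ρ).card = f := by
    refine le_antisymm ?_ ?_
    · refine le_trans (Finset.card_le_card (t := ((minpoly k η).map (algebraMap k _)).roots.toFinset) ?_)
        ((Multiset.toFinset_card_le _).trans ((card_roots' _).trans (natDegree_map_le (f := algebraMap k _) (p := minpoly k η))))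
      intro v hv
      obtain ⟨σ, hσ, rfl⟩ := Finset.mem_image.1 hv
      rw [Multiset.mem_toFinset, mem_roots (Polynomial.map_ne_zero (minpoly.ne_zero hint)), IsRoot.def, eval_map, ← aeval_def]
      have h1 := htrans σ ((hDset σ).1 hσ) (minpoly k η) (z := 0) (by simp) (by rw [minpoly.aeval]; exact map_zero _)
      rw [← h1]
      simp only [map_zero]
      exact map_zero _
    · have hpow : ∀ i : ℕ, φ ^ i ∈ D ∧ ρ (φ ^ i) = η ^ Q ^ i := by
        intro i
        induction i with
        | zero => exact ⟨by rw [pow_zero]; exact one_mem _, by rw [pow_zero, pow_zero, pow_one, hρ1]⟩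
        | succ i ih =>
          refine ⟨by rw [pow_succ']; exact mul_mem hφ.1 ih.1, ?_⟩
          have h1 := htrans φ hφ.1 (X ^ Q ^ i) (hσy (φ ^ i)) (by rw [map_pow, aeval_X]; exact ih.2)
          rw [map_pow, aeval_X] at h1
          have h2 : ρ (φ ^ (i + 1)) = ρ φ ^ Q ^ i := by
            simp only [ρ, pow_succ' φ i, AlgEquiv.mul_apply]
            exact h1
          rw [h2, hφ.2, ← pow_mul, mul_comm, ← pow_succ]
      haveI : Fintype (IsLocalRing.ResidueField P.O) := Fintype.ofFinite _
      have hcard : Fintype.card (IsLocalRing.ResidueField P.O) = Q ^ f := by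
        rw [← Nat.card_eq_fintype_card, @Module.natCard_eq_pow_finrank k _ _ _ _ hfin, hf]
        rfl
      obtain ⟨pc, hpc⟩ := CharP.exists (IsLocalRing.ResidueField P.O)
      haveI : Fact pc.Prime := ⟨CharP.char_is_prime (IsLocalRing.ResidueField P.O) pc⟩
      have hne : ∀ d : ℕ, 0 < d → d < f → η ^ Q ^ d ≠ η := by
        intro d hd0 hdf e
        have hall : ∀ r : IsLocalRing.ResidueField P.O, r ^ Q ^ d = r := by
          intro r
          obtain ⟨g, rfl⟩ := hadj r
          have hk : ∀ a : k[X], (aeval η a) ^ Q ^ d = aeval (η ^ Q ^ d) a := by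
            intro a
            clear hdf e hd0
            induction d with
            | zero => simp
            | succ d ih =>
              letI : Fintype k := Fintype.ofFinite k
              rw [pow_succ, pow_mul, ih, pow_mul η, show Q = Fintype.card k from Nat.card_eq_fintype_card, ← map_pow,
                ← FiniteField.expand_card, expand_aeval]
          rw [hk, e]
        have hN : 1 < Q ^ d := Nat.one_lt_pow hd0.ne' hQ
        have hsub : (Finset.univ : Finset (IsLocalRing.ResidueField P.O)) ⊆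
            ((X ^ Q ^ d - X : (IsLocalRing.ResidueField P.O)[X]).roots.toFinset) := fun r _ => by
          rw [Multiset.mem_toFinset, mem_roots (FiniteField.X_pow_card_sub_X_ne_zero _ hN)]
          simp [hall r]
        have h3 := (Finset.card_le_card hsub).trans ((Multiset.toFinset_card_le _).trans ((card_roots' _).trans
          (FiniteField.X_pow_card_sub_X_natDegree_eq _ hN).le))
        rw [Finset.card_univ, hcard] at h3
        exact absurd ((pow_le_pow_iff_right₀ hQ).1 h3) (not_le.2 hdf)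
      have hinj : ∀ i j, i < j → j < f → η ^ Q ^ i ≠ η ^ Q ^ j := by
        intro i j hij hj e
        refine hne (j - i) (by omega) (by omega) ?_
        have e2 : (η ^ Q ^ (j - i)) ^ Q ^ i = η ^ Q ^ i := by
          rw [← pow_mul, ← pow_add, Nat.sub_add_cancel hij.le, e]
        obtain ⟨a, ha⟩ : ∃ a, Q ^ i = pc ^ a := by
          letI : Fintype k := Fintype.ofFinite k
          haveI : CharP k pc := (RingHom.charP_iff (algebraMap k (IsLocalRing.ResidueField P.O)) (RingHom.injective _) pc).2 hpc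
          obtain ⟨a, -, ha⟩ := FiniteField.card k pc
          exact ⟨a * i, by rw [show Q = Fintype.card k from Nat.card_eq_fintype_card, ha, ← pow_mul]⟩
        simp only [ha] at e2 ⊢
        exact iterateFrobenius_inj (IsLocalRing.ResidueField P.O) pc a (by simpa [iterateFrobenius_def] using e2)
      refine le_of_eq_of_le (?_ : f = ((Finset.range f).image fun i => η ^ Q ^ i).card) (Finset.card_le_card ?_)
      · rw [Finset.card_image_of_injOn, Finset.card_range]
        intro i hi j hj e
        simp only [Finset.coe_range, Set.mem_Iio] at hi hj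
        rcases lt_trichotomy i j with hij | hij | hij
        · exact absurd e (hinj i j hij hj)
        · exact hij
        · exact absurd e.symm (hinj j i hij hi)
      · intro v hv
        obtain ⟨i, -, rfl⟩ := Finset.mem_image.1 hv
        exact Finset.mem_image.2 ⟨φ ^ i, (hDset _).2 (hpow i).1, (hpow i).2⟩
  have hsplit : Dset.card = f * I.card := by
    rw [Finset.card_eq_sum_card_image ρ, ← himage, ← smul_eq_mul, ← Finset.sum_const]
    refine Finset.sum_congr rfl fun v hv => ?_
    obtain ⟨σ, hσ, rfl⟩ := Finset.mem_image.1 hv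
    exact hfib σ hσ
  -- the decomposition group has order `e f`
  have hcardD : Nat.card D = FunFld.ramIdx P p * P.deg := by
    have h1 := card_places_mul_card_decomposition h
    have h2 := sum_ramIdx_mul_deg (K' := E) hF p S hS
    have h3 : ∀ R ∈ S, FunFld.ramIdx R p * R.deg = FunFld.ramIdx P p * P.deg := by
      intro R hR
      obtain ⟨σ, rfl⟩ := exists_conj h ((hS R).1 hR)
      rw [deg_conj, ramIdx_eq (isOverWith_conj h.choose_spec σ), ramIdx_eq h.choose_spec]
    rw [Finset.sum_congr rfl h3, Finset.sum_const, smul_eq_mul, hp, mul_one, ← h1] at h2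
    rw [Nat.card_congr (Equiv.subtypeEquivRight fun R => (hS R).symm), Nat.card_eq_finsetCard] at h2
    exact (Nat.eq_of_mul_eq_mul_left (Finset.card_pos.2 ⟨P, (hS P).2 h⟩) h2).symm
  have hDc : Nat.card D = Dset.card := by
    rw [← Nat.card_eq_finsetCard]
    exact Nat.card_congr (Equiv.subtypeEquivRight fun σ => (hDset σ).symm)
  have hΦ : Nat.card {σ : E ≃ₐ[F] E // P ∈ frobFix (σ.restrictScalars k)} = I.card := by
    rw [← hfib φ ((hDset φ).2 hφ.1), ← Nat.card_eq_finsetCard]
    refine Nat.card_congr (Equiv.subtypeEquivRight fun σ => ?_)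
    rw [hmem, Finset.mem_filter, hDset, hφ.2]
  rw [hΦ]
  have hfpos : 0 < f := minpoly.natDegree_pos hint
  rw [hDc, hsplit, ← hf, mul_comm (FunFld.ramIdx P p)] at hcardD
  exact Nat.eq_of_mul_eq_mul_left hfpos hcardD

/-- Summing over the Galois group counts the rational places below. -/
theorem sum_frobFix (T : (E ≃ₐ[F] E) → Finset (FunFld.Place k E))
    (hT : ∀ σ P, P ∈ T σ ↔ P ∈ frobFix (σ.restrictScalars k)) :
    ∑ σ : E ≃ₐ[F] E, ∑ P ∈ T σ, (P.deg : ℤ) =
      (Module.finrank F E : ℤ) * (Nat.card {p : FunFld.Place k F // p.deg = 1} : ℤ) := by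
  classical
  have hfinp : {p : FunFld.Place k F | p.deg = 1}.Finite :=
    (finite_places_deg_le hF 1).subset fun p (hp : p.deg = 1) => hp.le
  set Sp := hfinp.toFinset
  have hSp : ∀ p, p ∈ Sp ↔ p.deg = 1 := fun p => Set.Finite.mem_toFinset _
  let fib : FunFld.Place k F → Finset (FunFld.Place k E) := fun p => (finite_isOver (K' := E) hF p).toFinset
  have hfibm : ∀ p R, R ∈ fib p ↔ FunFld.IsOver R p := fun p R => Set.Finite.mem_toFinset _
  set U := Sp.biUnion fib
  have hmemU : ∀ σ, ∀ P ∈ T σ, P ∈ U := by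
    intro σ P hP
    obtain ⟨p, hp⟩ := exists_below hF.1 P
    exact Finset.mem_biUnion.2 ⟨p, (hSp p).2 (below_deg_one hF hE ((hT σ P).1 hP) hp), (hfibm p P).2 hp⟩
  have h1 : ∀ σ, ∑ P ∈ T σ, (P.deg : ℤ) = ∑ P ∈ U, if P ∈ T σ then (P.deg : ℤ) else 0 := fun σ => by
    rw [← Finset.sum_filter]
    congr 1
    ext P
    simp only [Finset.mem_filter]
    exact ⟨fun h => ⟨hmemU σ P h, h⟩, fun h => h.2⟩
  rw [Finset.sum_congr rfl fun σ _ => h1 σ, Finset.sum_comm, Finset.sum_biUnion]
  swap
  · intro a _ b _ hab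
    rw [Function.onFun, Finset.disjoint_left]
    intro R hRa hRb
    exact hab (isOver_unique ((hfibm a R).1 hRa) ((hfibm b R).1 hRb))
  have h2 : ∀ p ∈ Sp, ∑ P ∈ fib p, ∑ σ : E ≃ₐ[F] E, (if P ∈ T σ then (P.deg : ℤ) else 0) = (Module.finrank F E : ℤ) := by
    intro p hp
    rw [hSp] at hp
    have h3 := sum_ramIdx_mul_deg (K' := E) hF p (fib p) (hfibm p)
    rw [hp, mul_one] at h3
    rw [← h3, Nat.cast_sum]
    refine Finset.sum_congr rfl fun P hP => ?_
    rw [← Finset.sum_filter, Finset.sum_const, nsmul_eq_mul, ← card_frobenius hF hE hp ((hfibm p P).1 hP), Nat.cast_mul]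
    congr 1
    rw [Nat.card_eq_fintype_card, Fintype.card_subtype]
    simp only [hT]
  rw [Finset.sum_congr rfl h2, Finset.sum_const, nsmul_eq_mul, mul_comm]
  congr 1
  rw [← Nat.card_eq_finsetCard]
  exact_mod_cast Nat.card_congr (Equiv.subtypeEquivRight hSp)

end Groth.Agent.H23Zeta
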