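import Mathlib

/-!
Numbering a self-dual multiset of roots in pairs.
-/

set_option autoImplicit false

namespace Groth.Agent.H23Zeta

open Polynomial

theorem exists_pairing (q : ℂ) (hq : q ≠ 0) : ∀ (g : ℕ) (s : Multiset ℂ), s.card = 2 * g →
    s.map (fun α => q / α) = s → s.prod = q ^ g → (0 : ℂ) ∉ s →
    ∃ f : Fin (2 * g) → ℂ, Multiset.map f Finset.univ.val = s ∧ ∀ i, f i * f (Fin.rev i) = q := by
  intro g
  induction g with
  | zero =>
    intro s hs _ _ _
    have h0 : s = 0 := Multiset.card_eq_zero.1 (by simpa using hs)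
    exact ⟨fun i => absurd i.2 (by omega), by subst h0; rfl, fun i => absurd i.2 (by omega)⟩
  | succ g ih =>
    intro s hs hinv hprod h0
    obtain ⟨α, β, hαs, hβs, hαβ⟩ : ∃ α β, α ∈ s ∧ β ∈ s.erase α ∧ α * β = q := by
      by_cases hex : ∃ α ∈ s, α * α ≠ q
      · obtain ⟨α, hα, hne⟩ := hex
        have hα0 : α ≠ 0 := fun h => h0 (h ▸ hα)
        refine ⟨α, q / α, hα, (Multiset.mem_erase_of_ne fun h => hne ?_).2 ?_, mul_div_cancel₀ _ hα0⟩
        · rw [div_eq_iff hα0] at h; exact h.symm
        · rw [← hinv]; exact Multiset.mem_map_of_mem _ hα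
      · push Not at hex
        obtain ⟨α, hα⟩ := Multiset.card_pos_iff_exists_mem.1 (show 0 < s.card by omega)
        refine ⟨α, α, hα, ?_, hex α hα⟩
        by_contra hnot
        have hrest : s.erase α = Multiset.replicate (2 * g + 1) (-α) := by
          refine Multiset.eq_replicate.2 ⟨by rw [Multiset.card_erase_of_mem hα, Nat.pred_eq_sub_one]; omega, fun b hb => ?_⟩
          have h1 := hex b (Multiset.mem_of_mem_erase hb)
          rcases mul_self_eq_mul_self_iff.1 (h1.trans (hex α hα).symm) with e | e
          · exact absurd (e ▸ hb) hnot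
          · exact e
        rw [← Multiset.cons_erase hα, hrest, Multiset.prod_cons, Multiset.prod_replicate] at hprod
        have h1 : α * (-α) ^ (2 * g + 1) = -(α * α) ^ (g + 1) := by
          rw [Odd.neg_pow (odd_two_mul_add_one g), ← pow_two, ← pow_mul, mul_neg]
          congr 1
          ring
        rw [h1, hex α hα] at hprod
        have : q ^ (g + 1) = 0 := by linear_combination (-(1 : ℂ) / 2) * hprod
        exact pow_ne_zero _ hq this
    have hα0 : α ≠ 0 := fun h => h0 (h ▸ hαs)
    have hβ0 : β ≠ 0 := fun h => h0 (h ▸ Multiset.mem_of_mem_erase hβs)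
    set t := (s.erase α).erase β
    have hst : s = α ::ₘ β ::ₘ t := by
      rw [Multiset.cons_erase hβs, Multiset.cons_erase hαs]
    have hinvt : t.map (fun x => q / x) = t := by
      have h := hinv
      rw [hst, Multiset.map_cons, Multiset.map_cons, ← hαβ, mul_div_cancel_left₀ _ hα0,
        mul_div_cancel_right₀ _ hβ0, hαβ, Multiset.cons_swap] at h
      exact (Multiset.cons_inj_right _).1 ((Multiset.cons_inj_right _).1 h)
    obtain ⟨f, hf, hfpair⟩ := ih t (by
        have h := congrArg Multiset.card hst
        rw [Multiset.card_cons, Multiset.card_cons, hs] at h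
        omega) hinvt (by
        have h := hprod
        rw [hst, Multiset.prod_cons, Multiset.prod_cons, ← mul_assoc, hαβ, pow_succ'] at h
        exact mul_left_cancel₀ hq h) (fun h => h0 (hst ▸ by simp [h]))
    refine ⟨(Fin.cons α (Fin.snoc f β : Fin (2 * g + 1) → ℂ) : Fin (2 * g + 1 + 1) → ℂ), ?_, ?_⟩
    · change Multiset.map (Fin.cons α (Fin.snoc f β : Fin (2 * g + 1) → ℂ) : Fin (2 * g + 1 + 1) → ℂ) Finset.univ.val = s
      rw [Fin.univ_succ, Finset.cons_val, Multiset.map_cons, Fin.cons_zero, Finset.map_val, Multiset.map_map, hst]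
      congr 1
      rw [Fin.univ_castSuccEmb, Finset.cons_val, Multiset.map_cons, Finset.map_val, Multiset.map_map, ← hf]
      simp [Function.comp_def]
    · intro i
      change (Fin.cons α (Fin.snoc f β : Fin (2 * g + 1) → ℂ) : Fin (2 * g + 1 + 1) → ℂ) i *
        (Fin.cons α (Fin.snoc f β : Fin (2 * g + 1) → ℂ) : Fin (2 * g + 1 + 1) → ℂ) (Fin.rev i) = q
      induction i using Fin.cases with
      | zero =>
        rw [Fin.rev_zero, ← Fin.succ_last, Fin.cons_zero, Fin.cons_succ]
        exact (congrArg (α * ·) (Fin.snoc_last (α := fun _ : Fin (2 * g + 1) => ℂ) β f)).trans hαβ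
      | succ j =>
        induction j using Fin.lastCases with
        | last =>
          rw [Fin.succ_last, Fin.rev_last, Fin.cons_zero, ← Fin.succ_last, Fin.cons_succ, mul_comm]
          exact (congrArg (α * ·) (Fin.snoc_last (α := fun _ : Fin (2 * g + 1) => ℂ) β f)).trans hαβ
        | cast j =>
          rw [Fin.cons_succ, Fin.snoc_castSucc, Fin.rev_succ, Fin.rev_castSucc, ← Fin.succ_castSucc, Fin.cons_succ,
            Fin.snoc_castSucc]
          exact hfpair j

/-- The reciprocal roots of a self-reciprocal polynomial. -/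
theorem exists_recip_roots {q : ℂ} (hq : q ≠ 0) {g : ℕ} {p : ℂ[X]} (hdeg : p.natDegree = 2 * g)
    (h0 : p.coeff 0 = 1) (hsym : ∀ j ≤ 2 * g, q ^ j * p.coeff (2 * g - j) = q ^ g * p.coeff j) :
    ∃ α : Fin (2 * g) → ℂ, p = ∏ i, (1 - C (α i) * X) ∧ (∀ i, α i * α (Fin.rev i) = q) ∧
      ∀ i, (p.reverse).IsRoot (α i) := by
  set r := p.reverse
  have hp0 : p ≠ 0 := fun h => by simp [h] at h0
  have htr : p.natTrailingDegree = 0 := Polynomial.natTrailingDegree_eq_zero.2 (Or.inr (by rw [h0]; exact one_ne_zero))
  have hrd : r.natDegree = 2 * g := by rw [Polynomial.reverse_natDegree, htr, hdeg, Nat.sub_zero]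
  have hrm : r.Monic := by
    rw [Polynomial.Monic, Polynomial.reverse_leadingCoeff, Polynomial.trailingCoeff, htr, h0]
  have hprodr : r = (r.roots.map fun a => X - C a).prod :=
    (IsAlgClosed.splits r).eq_prod_roots_of_monic hrm
  have hcard : r.roots.card = 2 * g := by rw [← (IsAlgClosed.splits r).natDegree_eq_card_roots, hrd]
  have hrev : ∀ a : ℂ, (X - C a).reverse = 1 - C a * X := fun a => by
    rw [Polynomial.reverse, Polynomial.natDegree_X_sub_C, Polynomial.reflect_sub, Polynomial.reflect_C, pow_one]
    congr 1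
    ext (_ | _ | i) <;> simp [Polynomial.coeff_reflect, Polynomial.revAt, Polynomial.coeff_one, Polynomial.coeff_X]
  have hp : p = (r.roots.map fun a => 1 - C a * X).prod := by
    have h1 : p = r.reverse := by
      ext i
      rw [Polynomial.coeff_reverse, hrd, Polynomial.coeff_reverse, hdeg, Polynomial.revAt_invol]
    have h2 : ∀ s : Multiset ℂ, ((s.map fun a => X - C a).prod).reverse = (s.map fun a => 1 - C a * X).prod := by
      intro s
      induction s using Multiset.induction_on with
      | empty =>
        simp only [Multiset.map_zero, Multiset.prod_zero]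
        exact (congrArg Polynomial.reverse Polynomial.C_1.symm).trans ((Polynomial.reverse_C 1).trans Polynomial.C_1)
      | cons a s ih => simp only [Multiset.map_cons, Multiset.prod_cons, Polynomial.reverse_mul_of_domain, ih, hrev]
    conv_lhs => rw [h1, hprodr, h2]
  have hzero : (0 : ℂ) ∉ r.roots := fun h => by
    have h1 := Polynomial.isRoot_of_mem_roots h
    rw [Polynomial.IsRoot.def, ← Polynomial.coeff_zero_eq_eval_zero, Polynomial.coeff_zero_reverse,
      Polynomial.leadingCoeff_eq_zero] at h1
    exact hp0 h1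
  have hcomp : r.comp (C q * X) = C (q ^ g) * p := by
    ext j
    rw [Polynomial.comp_C_mul_X_coeff, Polynomial.coeff_C_mul, Polynomial.coeff_reverse, hdeg]
    rcases le_or_gt j (2 * g) with hj | hj
    · rw [Polynomial.revAt_le hj, mul_comm]; exact hsym j hj
    · rw [Polynomial.revAt_eq_self_of_lt hj, Polynomial.coeff_eq_zero_of_natDegree_lt (hdeg ▸ hj)]; ring
  have hinv : r.roots.map (fun a => q / a) = r.roots := by
    have h1 := congrArg Polynomial.roots hcomp
    rw [Polynomial.roots_C_mul _ (pow_ne_zero _ hq)] at h1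
    have hL : (r.comp (C q * X)).roots = r.roots.map fun a => a / q := by
      have e : r.comp (C q * X) = C (q ^ (2 * g)) * (r.roots.map fun a => X - C (a / q)).prod := by
        conv_lhs => rw [hprodr, Polynomial.multiset_prod_comp, Multiset.map_map]
        rw [← hcard, map_pow, ← Multiset.prod_replicate, ← Multiset.map_const', ← Multiset.prod_map_mul]
        congr 1
        refine Multiset.map_congr rfl fun a _ => ?_
        simp only [Function.comp_apply, sub_comp, X_comp, C_comp]
        rw [mul_sub, ← C_mul, mul_div_cancel₀ _ hq]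
      rw [e, Polynomial.roots_C_mul _ (pow_ne_zero _ hq),
        show (fun a : ℂ => X - C (a / q)) = (fun b => X - C b) ∘ (fun a => a / q) from rfl, ← Multiset.map_map (fun b => X - C b) (fun a => a / q), Polynomial.roots_multiset_prod_X_sub_C]
    have hR : p.roots = r.roots.map fun a => a⁻¹ := by
      have e : (r.roots.map fun a => 1 - C a * X).prod =
          C ((r.roots.map fun a => -a).prod) * (r.roots.map fun a => X - C a⁻¹).prod := by
        rw [map_multiset_prod, Multiset.map_map, ← Multiset.prod_map_mul]
        congr 1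
        refine Multiset.map_congr rfl fun a ha => ?_
        simp only [Function.comp_apply]
        rw [mul_sub, ← C_mul, neg_mul, mul_inv_cancel₀ (fun h => hzero (by rwa [h] at ha)), map_neg, map_neg, map_one]
        ring
      have hne : (r.roots.map fun a => -a).prod ≠ 0 := Multiset.prod_ne_zero (by simpa using hzero)
      rw [hp, e, Polynomial.roots_C_mul _ hne,
        show (fun a : ℂ => X - C a⁻¹) = (fun b => X - C b) ∘ (fun a => a⁻¹) from rfl, ← Multiset.map_map (fun b => X - C b) (fun a => a⁻¹),
        Polynomial.roots_multiset_prod_X_sub_C]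
    rw [hL, hR] at h1
    have h2 := congrArg (Multiset.map fun b => q * b) h1
    rw [Multiset.map_map, Multiset.map_map] at h2
    simp only [Function.comp_def, mul_div_cancel₀ _ hq, Multiset.map_id'] at h2
    simpa [div_eq_mul_inv] using h2.symm
  have hprod : r.roots.prod = q ^ g := by
    have h1 := (IsAlgClosed.splits r).coeff_zero_eq_prod_roots_of_monic hrm
    rw [hrd, (even_two_mul g).neg_one_pow, one_mul, Polynomial.coeff_zero_reverse] at h1
    rw [← h1, Polynomial.leadingCoeff, hdeg]
    have h2 := hsym 0 (Nat.zero_le _)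
    rwa [pow_zero, one_mul, Nat.sub_zero, h0, mul_one] at h2
  obtain ⟨f, hf, hpair⟩ := exists_pairing q hq g r.roots hcard hinv hprod hzero
  refine ⟨f, ?_, hpair, fun i => Polynomial.isRoot_of_mem_roots (hf ▸ Multiset.mem_map_of_mem f (Finset.mem_univ_val i))⟩
  conv_lhs => rw [hp, ← hf, Multiset.map_map]
  rfl

end Groth.Agent.H23Zeta
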