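import Mathlib
import Groth.Agent.H23Zeta.Frobenius
import Groth.Agent.H23Zeta.Numer
import Groth.Agent.H23Zeta.Descent
import Groth.Agent.H23Zeta.Pairing
import Groth.Agent.H23Geom.Criteria
import Groth.Agent.H23Geom.Separating
import Groth.Agent.H23FunFld.Rational

/-!
The Riemann hypothesis for function fields over finite fields.
-/

set_option autoImplicit false
set_option linter.unusedSectionVars false
set_option linter.style.haveILetI false

namespace Groth.Agent.H23Zeta

open Groth.Agent.H23FunFld Groth.Agent.H23Ext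

universe u v

/-- The numerator as a product over its reciprocal roots. -/
theorem exists_alpha {k K : Type*} [Field k] [Field K] [Algebra k K] [Finite k]
    (hK : FunFld.IsFunctionField k K) :
    ∃ α : Fin (2 * FunFld.genus k K) → ℂ,
      PowerSeries.map (Int.castRingHom ℂ) (FunFld.numerZ k K) =
        ((∏ i, (1 - Polynomial.C (α i) * Polynomial.X) : Polynomial ℂ) : PowerSeries ℂ) ∧
      ∀ i, α i * α (Fin.rev i) = (Nat.card k : ℂ) := by
  have h1 := exists_deg hK
  obtain ⟨p, hp, hdeg⟩ := exists_poly hK h1
  set g := FunFld.genus k K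
  set q : ℚ := (Nat.card k : ℚ)
  have hcoeff : ∀ i, ((p.coeff i : ℤ) : ℚ) = lc k K i := fun i => by rw [lc, ← hp, Polynomial.coeff_coe]
  set pC := p.map (Int.castRingHom ℂ)
  have hq : (Nat.card k : ℂ) ≠ 0 := by exact_mod_cast Nat.card_pos.ne'
  have h0 : pC.coeff 0 = 1 := by
    have e := hcoeff 0
    rw [lc_zero hK h1] at e
    have e' : p.coeff 0 = 1 := by exact_mod_cast e
    simp [pC, Polynomial.coeff_map, e']
  have hsym : ∀ j ≤ 2 * g, (Nat.card k : ℂ) ^ j * pC.coeff (2 * g - j) = (Nat.card k : ℂ) ^ g * pC.coeff j := by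
    intro j hj
    have e := lc_symm hK h1 hj
    rw [← hcoeff, ← hcoeff] at e
    have e2 : q ^ j * ((p.coeff (2 * g - j) : ℤ) : ℚ) = q ^ g * ((p.coeff j : ℤ) : ℚ) := by
      have hq0 : q ≠ 0 := Nat.cast_ne_zero.2 Nat.card_pos.ne'
      rw [e, ← mul_assoc, ← zpow_natCast q j, ← zpow_add₀ hq0, add_sub_cancel, zpow_natCast]
    have e3 : (Nat.card k : ℤ) ^ j * p.coeff (2 * g - j) = (Nat.card k : ℤ) ^ g * p.coeff j := by
      simp only [q] at e2
      exact_mod_cast e2
    simpa [pC, Polynomial.coeff_map] using congrArg (Int.castRingHom ℂ) e3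
  obtain ⟨α, hα, hpair, -⟩ := exists_recip_roots hq
    (by rw [Polynomial.natDegree_map_eq_of_injective (Int.castRingHom ℂ).injective_int]; exact hdeg) h0 hsym
  refine ⟨α, ?_, hpair⟩
  rw [← hp, ← hα, Polynomial.polynomial_map_coe]

/-- The genus does not change in a constant extension. -/
theorem genus_constExt {k K k' K' : Type*} [Field k] [Field K] [Algebra k K] [Finite k] [Field k'] [Field K']
    [Algebra k k'] [Algebra K K'] [Algebra k' K'] [Finite k'] (hK : FunFld.IsFunctionField k K)
    (hK' : FunFld.IsFunctionField k' K') (hce : FunFld.IsConstExt k K k' K') :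
    FunFld.genus k' K' = FunFld.genus k K := by
  obtain ⟨α, hα, hpair⟩ := exists_alpha hK
  obtain ⟨α', hα', hpair'⟩ := exists_alpha hK'
  have hdeg : ∀ {ι : Type} [Fintype ι] (c : ι → ℂ), (∀ i, c i ≠ 0) →
      (∏ i, (1 - Polynomial.C (c i) * Polynomial.X)).natDegree = Fintype.card ι := by
    intro ι _ c hc
    have e : ∀ i, (1 - Polynomial.C (c i) * Polynomial.X).natDegree = 1 := fun i => by
      rw [show (1 : Polynomial ℂ) - Polynomial.C (c i) * Polynomial.X =
          Polynomial.C (-c i) * Polynomial.X + Polynomial.C 1 by rw [map_neg, map_one]; ring,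
        Polynomial.natDegree_linear (neg_ne_zero.2 (hc i))]
    rw [Polynomial.natDegree_prod _ _ fun i _ h => by simpa [h] using e i]
    simp [e]
  have hne : ∀ i, α i ≠ 0 := fun i h => by
    have := hpair i
    rw [h, zero_mul] at this
    exact Nat.card_pos.ne' (by exact_mod_cast this.symm)
  have hne' : ∀ i, α' i ≠ 0 := fun i h => by
    have := hpair' i
    rw [h, zero_mul] at this
    exact Nat.card_pos.ne' (by exact_mod_cast this.symm)
  have h := (numerZ_constExt hK hK' hce α hα).symm.trans hα'
  have h' := congrArg Polynomial.natDegree (Polynomial.coe_inj.1 h)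
  rw [hdeg _ (fun i => pow_ne_zero _ (hne i)), hdeg _ hne', Fintype.card_fin, Fintype.card_fin] at h'
  omega

/-- The extension of a subfield by the constants. -/
theorem sub_constExt {k B E k' E' : Type*} [Field k] [Finite k] [Field B] [Field E] [Field k'] [Finite k']
    [Field E'] [Algebra k B] [Algebra k k'] [Algebra B E] [Algebra E E'] [Algebra B E'] [IsScalarTower B E E']
    [Algebra k' E'] [Algebra k E'] [IsScalarTower k B E'] [IsScalarTower k k' E']
    [FiniteDimensional B E] [IsGalois B E] [FiniteDimensional E E']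
    (hB : FunFld.IsFunctionField k B) (hgen : Algebra.adjoin E (Set.range (algebraMap k' E')) = ⊤)
    (B' : IntermediateField B E') (hB' : B' = IntermediateField.adjoin B (Set.range (algebraMap k' E')))
    [Algebra k' B'] [IsScalarTower k' B' E'] :
    FunFld.IsConstExt k B k' B' ∧ IsGalois B' E' := by
  haveI : FiniteDimensional k k' := Module.Finite.of_finite
  haveI : FiniteDimensional B E' := Module.Finite.trans E E'
  obtain ⟨θ, hθ⟩ := Field.exists_primitive_element k k'
  have hint : IsIntegral k θ := IsIntegral.of_finite k θ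
  set θ' := algebraMap k' E' θ
  have hrange : Set.range (algebraMap k' E') ⊆ IntermediateField.adjoin B ({θ'} : Set E') := by
    rintro _ ⟨c, rfl⟩
    have hc : c ∈ IntermediateField.adjoin k ({θ} : Set k') := by rw [hθ]; trivial
    have h2 : algebraMap k' E' c ∈ IntermediateField.adjoin k ({θ'} : Set E') := by
      have := IntermediateField.adjoin_map k ({θ} : Set k') (IsScalarTower.toAlgHom k k' E')
      rw [Set.image_singleton] at this
      exact this ▸ ⟨c, hc, rfl⟩
    have hle : IntermediateField.adjoin k ({θ'} : Set E') ≤ (IntermediateField.adjoin B ({θ'} : Set E')).restrictScalars k := by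
      rw [IntermediateField.adjoin_le_iff, Set.singleton_subset_iff]
      exact IntermediateField.mem_adjoin_simple_self B θ'
    exact hle h2
  have hB'θ : B' = IntermediateField.adjoin B ({θ'} : Set E') := by
    rw [hB']
    exact le_antisymm (IntermediateField.adjoin_le_iff.2 hrange)
      (IntermediateField.adjoin.mono B _ _ (Set.singleton_subset_iff.2 ⟨θ, rfl⟩))
  have hcomp : (algebraMap B E').comp (algebraMap k B) = (algebraMap k' E').comp (algebraMap k k') := by
    ext c
    simp only [RingHom.comp_apply, ← IsScalarTower.algebraMap_apply]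
  have hroot : Polynomial.aeval θ' ((minpoly k θ).map (algebraMap k B)) = 0 := by
    rw [Polynomial.aeval_def, Polynomial.eval₂_map, hcomp, ← Polynomial.hom_eval₂, ← Polynomial.aeval_def,
      minpoly.aeval, map_zero]
  have hrank : Module.finrank B B' = Module.finrank k k' := by
    rw [hB'θ, IntermediateField.adjoin.finrank (IsIntegral.of_finite B θ'),
      ← minpoly.eq_of_irreducible_of_monic (irreducible_map hB.2 (minpoly.irreducible hint) (minpoly.monic hint))
        hroot ((minpoly.monic hint).map _), Polynomial.natDegree_map, ← IntermediateField.adjoin.finrank hint, hθ,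
      IntermediateField.finrank_top']
  have hce : FunFld.IsConstExt k B k' B' := by
    refine ⟨fun c => Subtype.ext ?_, ?_, hrank⟩
    · change algebraMap B E' (algebraMap k B c) = algebraMap B' E' (algebraMap k' B' (algebraMap k k' c))
      rw [← IsScalarTower.algebraMap_apply k' B' E', ← IsScalarTower.algebraMap_apply k B E',
        ← IsScalarTower.algebraMap_apply k k' E']
    · refine Subalgebra.map_injective (f := B'.val) B'.val.injective ?_
      rw [AlgHom.map_adjoin, Algebra.map_top, IntermediateField.range_val, ← Set.range_comp]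
      have e : (⇑B'.val ∘ ⇑(algebraMap k' B')) = ⇑(algebraMap k' E') := by
        funext c
        exact (IsScalarTower.algebraMap_apply k' B' E' c).symm
      rw [e, ← IntermediateField.adjoin_toSubalgebra_of_isAlgebraic
        (fun z _ => (IsIntegral.of_finite B z).isAlgebraic), ← hB']
  refine ⟨hce, ?_⟩
  obtain ⟨β, hβ⟩ := Field.exists_primitive_element B E
  set β' := algebraMap E E' β
  haveI : FiniteDimensional B' E' := Module.Finite.right B B' E'
  set P := (minpoly B β).map (algebraMap B B')
  have hsplit : Polynomial.Splits (P.map (algebraMap B' E')) := by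
    rw [Polynomial.map_map, ← IsScalarTower.algebraMap_eq, IsScalarTower.algebraMap_eq B E E', ← Polynomial.map_map]
    exact (Normal.splits (inferInstance : Normal B E) β).map _
  haveI : Polynomial.IsSplittingField B' E' P := by
    refine ⟨hsplit, ?_⟩
    have hPne : P ≠ 0 := Polynomial.map_ne_zero (minpoly.ne_zero (IsIntegral.of_finite B β))
    have hβmem : β' ∈ P.rootSet E' := by
      rw [Polynomial.mem_rootSet]
      refine ⟨hPne, ?_⟩
      rw [Polynomial.aeval_map_algebraMap, Polynomial.aeval_algebraMap_apply, minpoly.aeval, map_zero]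
    set A := Algebra.adjoin B' (P.rootSet E')
    have hE : ∀ e : E, algebraMap E E' e ∈ A := by
      intro e
      have he : e ∈ Algebra.adjoin B ({β} : Set E) := by
        rw [← IntermediateField.adjoin_simple_toSubalgebra_of_isAlgebraic (IsIntegral.of_finite B β).isAlgebraic, hβ]
        trivial
      induction he using Algebra.adjoin_induction with
      | mem v hv => rw [Set.mem_singleton_iff.1 hv]; exact Algebra.subset_adjoin hβmem
      | algebraMap r =>
        rw [← IsScalarTower.algebraMap_apply, IsScalarTower.algebraMap_apply B B' E']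
        exact Subalgebra.algebraMap_mem _ _
      | add x y _ _ hx hy => rw [map_add]; exact add_mem hx hy
      | mul x y _ _ hx hy => rw [map_mul]; exact mul_mem hx hy
    rw [eq_top_iff]
    intro z hzt
    clear hzt
    have hz : z ∈ Algebra.adjoin E (Set.range (algebraMap k' E')) := by rw [hgen]; trivial
    induction hz using Algebra.adjoin_induction with
    | mem v hv =>
      obtain ⟨c, rfl⟩ := hv
      rw [IsScalarTower.algebraMap_apply k' B' E']
      exact Subalgebra.algebraMap_mem _ _
    | algebraMap r => exact hE r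
    | add x y _ _ hx hy => exact add_mem hx hy
    | mul x y _ _ hx hy => exact mul_mem hx hy
  exact IsGalois.of_separable_splitting_field (p := P)
    (Polynomial.Separable.map (Algebra.IsSeparable.isSeparable B β))

/-- Power sums which stay bounded come from numbers in the closed unit disc. -/
theorem norm_le_one_of_bounded {ι : Type*} [Fintype ι] (γ : ι → ℂ) (C : ℝ) (j0 : ℕ)
    (h : ∀ j, j0 ≤ j → ‖∑ l, γ l ^ j‖ ≤ C) (i : ι) : ‖γ i‖ ≤ 1 := by
  classical
  by_contra hlt
  push Not at hlt
  set v := γ i
  set P : Polynomial ℂ := ∏ w ∈ (Finset.univ.image γ).erase v, (Polynomial.X - Polynomial.C w)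
  set D := P.natDegree
  have hPv : P.eval v ≠ 0 := by
    rw [Polynomial.eval_prod, Finset.prod_ne_zero_iff]
    intro w hw
    simp only [Polynomial.eval_sub, Polynomial.eval_X, Polynomial.eval_C]
    exact sub_ne_zero.2 (Finset.ne_of_mem_erase hw).symm
  set m := (Finset.univ.filter fun l => γ l = v).card
  have hm : 0 < m := Finset.card_pos.2 ⟨i, by simp [v]⟩
  have key : ∀ j, (m : ℂ) * P.eval v * v ^ j = ∑ t ∈ Finset.range (D + 1), P.coeff t * ∑ l, γ l ^ (j + t) := by
    intro j
    calc (m : ℂ) * P.eval v * v ^ j = ∑ l, P.eval (γ l) * γ l ^ j := by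
          rw [← Finset.sum_subset (Finset.subset_univ (Finset.univ.filter fun l => γ l = v))]
          · rw [Finset.sum_congr rfl (fun l hl => by rw [(Finset.mem_filter.1 hl).2]), Finset.sum_const, nsmul_eq_mul,
              mul_assoc]
          · intro l _ hl
            simp only [Finset.mem_filter, Finset.mem_univ, true_and] at hl
            rw [Polynomial.eval_prod, Finset.prod_eq_zero (Finset.mem_erase.2 ⟨hl, Finset.mem_image_of_mem γ (Finset.mem_univ l)⟩),
              zero_mul]
            simp
      _ = ∑ l, ∑ t ∈ Finset.range (D + 1), P.coeff t * γ l ^ (j + t) := by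
          refine Finset.sum_congr rfl fun l _ => ?_
          rw [Polynomial.eval_eq_sum_range, Finset.sum_mul]
          refine Finset.sum_congr rfl fun t _ => ?_
          ring
      _ = _ := by rw [Finset.sum_comm]; simp only [Finset.mul_sum]
  set B := ∑ t ∈ Finset.range (D + 1), ‖P.coeff t‖ * C
  have hbound : ∀ j, j0 ≤ j → ‖(m : ℂ) * P.eval v‖ * ‖v‖ ^ j ≤ B := by
    intro j hj
    rw [← norm_pow, ← norm_mul, key]
    refine (norm_sum_le _ _).trans (Finset.sum_le_sum fun t _ => ?_)
    rw [norm_mul]
    exact mul_le_mul_of_nonneg_left (h _ (by omega)) (norm_nonneg _)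
  have hpos : 0 < ‖(m : ℂ) * P.eval v‖ := norm_pos_iff.2 (mul_ne_zero (Nat.cast_ne_zero.2 hm.ne') hPv)
  obtain ⟨N, hN⟩ := pow_unbounded_of_one_lt (B / ‖(m : ℂ) * P.eval v‖) hlt
  have h2 := hbound (max N j0) (le_max_right _ _)
  rw [div_lt_iff₀' hpos] at hN
  have h3 := mul_le_mul_of_nonneg_left (pow_le_pow_right₀ hlt.le (le_max_left N j0)) hpos.le
  linarith

set_option maxHeartbeats 1000000 in
/-- The uniform estimate along a progression of constant extensions. -/
theorem power_sum_bound {k F K E : Type*} [Field k] [Finite k] [Field F] [Field K] [Field E] [Algebra k F]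
    [Algebra k K] [Algebra F K] [Algebra k E] [Algebra F E] [Algebra K E] [IsScalarTower k F E] [IsScalarTower k K E]
    [IsScalarTower F K E] [IsGalois F E] [FiniteDimensional F E]
    (hF : FunFld.IsFunctionField k F) (hF0 : FunFld.numerZ k F = 1) (hK : FunFld.IsFunctionField k K)
    {ι : Type*} [Fintype ι] (α : ι → ℂ)
    (hα : PowerSeries.map (Int.castRingHom ℂ) (FunFld.numerZ k K) =
      ((∏ i, (1 - Polynomial.C (α i) * Polynomial.X) : Polynomial ℂ) : PowerSeries ℂ)) :
    ∃ M : ℕ, 0 < M ∧ ∃ (C : ℝ) (j0 : ℕ), ∀ j, j0 ≤ j → ‖∑ i, α i ^ (2 * M * j)‖ ≤ C * (Nat.card k : ℝ) ^ (M * j) := by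
  classical
  haveI : IsGalois K E := IsGalois.tower_top_of_isGalois F K E
  haveI : FiniteDimensional K E := Module.Finite.right F K E
  have hEff : IsFF k E := isFF_extension (K' := E) hF.1
  haveI := finiteDimensional_cst hEff
  haveI : Finite (cst k E) := Module.finite_of_finite k
  have hE0 := isFunctionField_cst hEff
  obtain ⟨P0⟩ := nonempty_place hE0
  have hd : 0 < P0.deg := deg_pos hE0 P0
  set d := P0.deg
  set m := Module.finrank k (cst k E)
  have hm : 0 < m := Module.finrank_pos
  set g := FunFld.genus (cst k E) E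
  set dF := Module.finrank F E
  refine ⟨m * d, Nat.mul_pos hm hd, (dF * (2 * g + 3) + 1 : ℕ), (g + 1) ^ 2 + 1, fun j hj => ?_⟩
  set D := 2 * d * j
  have hj0 : 0 < j := lt_of_lt_of_le (Nat.succ_pos _) hj
  have hD : 0 < D := by positivity
  obtain ⟨k', E', _, _, _, _, _, _, _, _, _, hE', hce, hD'⟩ := exists_constExt hE0 D hD
  haveI : FiniteDimensional (cst k E) k' := Module.Finite.of_finite
  -- the rational place upstairs
  obtain ⟨hcard, hdeg⟩ := places_over hE0 hce hE' P0
  rw [hD', show Nat.gcd d D = d from Nat.gcd_eq_left ⟨2 * j, by ring⟩] at hcard hdeg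
  obtain ⟨⟨R, hR⟩⟩ : Nonempty {Q : FunFld.Place k' E' // FunFld.IsOver (toBase (k := cst k E) Q) P0} :=
    (Nat.card_pos_iff.1 (hcard ▸ hd)).1
  have hR1 : R.deg = 1 := by
    have := hdeg R hR
    nlinarith
  have hg' : FunFld.genus k' E' = g := genus_constExt hE0 hE' hce
  -- the maps
  letI : Algebra k k' := ((algebraMap (cst k E) k').comp (algebraMap k (cst k E))).toAlgebra
  haveI : IsScalarTower k (cst k E) k' := IsScalarTower.of_algebraMap_eq fun _ => rfl
  letI : Algebra k E' := ((algebraMap E E').comp (algebraMap k E)).toAlgebra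
  haveI : IsScalarTower k E E' := IsScalarTower.of_algebraMap_eq fun _ => rfl
  letI : Algebra F E' := ((algebraMap E E').comp (algebraMap F E)).toAlgebra
  haveI : IsScalarTower F E E' := IsScalarTower.of_algebraMap_eq fun _ => rfl
  letI : Algebra K E' := ((algebraMap E E').comp (algebraMap K E)).toAlgebra
  haveI : IsScalarTower K E E' := IsScalarTower.of_algebraMap_eq fun _ => rfl
  haveI : IsScalarTower k F E' := IsScalarTower.of_algebraMap_eq fun c => by
    change algebraMap E E' _ = algebraMap E E' _
    rw [← IsScalarTower.algebraMap_apply k F E]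
  haveI : IsScalarTower k K E' := IsScalarTower.of_algebraMap_eq fun c => by
    change algebraMap E E' _ = algebraMap E E' _
    rw [← IsScalarTower.algebraMap_apply k K E]
  haveI : IsScalarTower k k' E' := IsScalarTower.of_algebraMap_eq fun c => by
    change algebraMap E E' (algebraMap k E c) = algebraMap k' E' (algebraMap (cst k E) k' (algebraMap k (cst k E) c))
    rw [← hce.1]
    rfl
  haveI : FiniteDimensional k k' := Module.Finite.of_finite
  have hnk : Module.finrank k k' = m * D := by rw [← Module.finrank_mul_finrank k (cst k E) k', hD']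
  haveI : FiniteDimensional E E' := Module.finite_of_finrank_pos (by rw [hce.2.2, hD']; exact hD)
  have hgen := hce.2.1
  set S := Set.range (algebraMap k' E')
  set F' := IntermediateField.adjoin F S with hF'def
  set K' := IntermediateField.adjoin K S with hK'def
  letI : Algebra k' F' := ((algebraMap k' E').codRestrict F' fun c => IntermediateField.subset_adjoin F S ⟨c, rfl⟩).toAlgebra
  haveI : IsScalarTower k' F' E' := IsScalarTower.of_algebraMap_eq fun _ => rfl
  letI : Algebra k' K' := ((algebraMap k' E').codRestrict K' fun c => IntermediateField.subset_adjoin K S ⟨c, rfl⟩).toAlgebra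
  haveI : IsScalarTower k' K' E' := IsScalarTower.of_algebraMap_eq fun _ => rfl
  obtain ⟨hceF, hGF⟩ := sub_constExt (E := E) hF hgen F' hF'def
  obtain ⟨hceK, hGK⟩ := sub_constExt (E := E) hK hgen K' hK'def
  haveI := hGF
  haveI := hGK
  haveI : IsScalarTower k k' F' := IsScalarTower.of_algebraMap_eq fun c => Subtype.ext (IsScalarTower.algebraMap_apply k k' E' c)
  haveI : IsScalarTower k k' K' := IsScalarTower.of_algebraMap_eq fun c => Subtype.ext (IsScalarTower.algebraMap_apply k k' E' c)
  haveI : FiniteDimensional F E' := Module.Finite.trans E E'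
  haveI : FiniteDimensional K E' := Module.Finite.trans E E'
  haveI : FiniteDimensional F' E' := Module.Finite.right F F' E'
  haveI : FiniteDimensional K' E' := Module.Finite.right K K' E'
  have hF' : FunFld.IsFunctionField k' F' := isFunctionField_ext hF hceF
  have hK' : FunFld.IsFunctionField k' K' := isFunctionField_ext hK hceK
  -- degrees
  have hd1 : Module.finrank F' E' * (m * D) = dF * D := by
    have h1 := Module.finrank_mul_finrank F F' E'
    have h2 := Module.finrank_mul_finrank F E E'
    rw [hce.2.2, hD'] at h2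
    rw [hceF.2.2, hnk, ← h2] at h1
    rw [← h1, mul_comm]
  have hd1le : Module.finrank F' E' ≤ dF := by
    have h1 : Module.finrank F' E' * m = dF := Nat.eq_of_mul_eq_mul_right hD (by rw [← hd1, mul_assoc])
    exact h1 ▸ Nat.le_mul_of_pos_right _ hm
  -- the number of constants
  set Q := Nat.card k'
  have hQ : Q = Nat.card k ^ (m * D) := by
    rw [← hnk]; exact Module.natCard_eq_pow_finrank (K := k) (V := k')
  set r := Nat.card k ^ (m * d * j)
  have hr : r * r = Q := by rw [hQ, ← pow_add]; congr 1; simp only [D]; ring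
  have hrg : (FunFld.genus k' E' + 1) ^ 2 < r := by
    rw [hg']
    have h1 : j < 2 ^ j := Nat.lt_two_pow_self
    have h2 : 2 ^ j ≤ r := by
      refine le_trans (Nat.pow_le_pow_left Finite.one_lt_card j) (Nat.pow_le_pow_right Nat.card_pos ?_)
      exact Nat.le_mul_of_pos_left j (Nat.mul_pos hm hd)
    omega
  -- a fixed transcendental function
  obtain ⟨x, hx, -⟩ := hF'.1
  set xE := algebraMap F' E' x
  have hxE : Transcendental k' xE := transcendental_algebraMap hx
  have hle : F' ≤ IntermediateField.adjoin F (Set.range (algebraMap k' E')) := le_rfl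
  have hfixed : ∀ σ : E' ≃ₐ[K'] E', ∀ z ∈ F', σ z = z := by
    intro σ z hz
    induction hz using IntermediateField.adjoin_induction with
    | mem v hv => exact σ.commutes ⟨v, IntermediateField.subset_adjoin K S hv⟩
    | algebraMap c =>
      have hc : algebraMap F E' c ∈ K' := by
        change algebraMap E E' (algebraMap F E c) ∈ K'
        rw [IsScalarTower.algebraMap_apply F K E]
        exact K'.algebraMap_mem (algebraMap F K c)
      exact σ.commutes ⟨_, hc⟩
    | add a b _ _ ha hb => rw [map_add, ha, hb]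
    | inv a _ ha => rw [map_inv₀, ha]
    | mul a b _ _ ha hb => rw [map_mul, ha, hb]
  let lift : (E' ≃ₐ[K'] E') → (E' ≃ₐ[F'] E') := fun σ =>
    { σ.toRingEquiv with commutes' := fun z => hfixed σ z z.2 }
  let T : (E' ≃ₐ[F'] E') → Finset (FunFld.Place k' E') := fun σ =>
    (finite_frobFix hE' (σ.restrictScalars k') hxE (σ.commutes x)).toFinset
  have hT : ∀ σ P, P ∈ T σ ↔ P ∈ frobFix (σ.restrictScalars k') := fun σ P => Set.Finite.mem_toFinset _
  have hT' : ∀ σ P, P ∈ T (lift σ) ↔ P ∈ frobFix (σ.restrictScalars k') := fun σ P => hT (lift σ) P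
  set W : ℤ := (2 * (g : ℤ) + 1) * r + 2
  have hub : ∀ σ, ∑ P ∈ T σ, (P.deg : ℤ) ≤ (Q : ℤ) + W := fun σ => by
    have h := stepanov hE' (σ.restrictScalars k') hR1 hr hrg (T σ) fun P hP => (hT σ P).1 hP
    rw [hg'] at h
    simp only [W]
    linarith
  have hsumF := sum_frobFix hF' hE' T hT
  -- the rational places of `F'`
  have hNF : (Nat.card {p : FunFld.Place k' F' // p.deg = 1} : ℤ) = (Q : ℤ) + 1 := by
    have h := card_places_deg_one_constExt hF hF' hceF (ι := Empty) Empty.elim (by rw [hF0]; simp)
    rw [hnk, Finset.univ_eq_empty, Finset.sum_empty, sub_zero] at h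
    have h' : (Nat.card {p : FunFld.Place k' F' // p.deg = 1} : ℂ) = ((Q + 1 : ℕ) : ℂ) := by
      rw [h, hQ]; push_cast; ring
    exact_mod_cast h'
  rw [hNF] at hsumF
  have hcardF : Fintype.card (E' ≃ₐ[F'] E') = Module.finrank F' E' := by
    rw [← Nat.card_eq_fintype_card]; exact IsGalois.card_aut_eq_finrank F' E'
  set d1 := Module.finrank F' E'
  have hlb : ∀ σ, (Q : ℤ) - d1 * W ≤ ∑ P ∈ T σ, (P.deg : ℤ) := by
    intro σ
    have h1 : ∑ τ ∈ Finset.univ.erase σ, ∑ P ∈ T τ, (P.deg : ℤ) ≤ ((d1 : ℤ) - 1) * ((Q : ℤ) + W) := by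
      refine (Finset.sum_le_card_nsmul _ _ _ fun τ _ => hub τ).trans (le_of_eq ?_)
      rw [Finset.card_erase_of_mem (Finset.mem_univ σ), Finset.card_univ, hcardF, nsmul_eq_mul,
        Nat.cast_sub Module.finrank_pos, Nat.cast_one]
    rw [← Finset.add_sum_erase _ _ (Finset.mem_univ σ)] at hsumF
    have hW : (0 : ℤ) ≤ W := by positivity
    nlinarith
  -- the rational places of `K'`
  have hsumK := sum_frobFix hK' hE' (fun σ => T (lift σ)) hT'
  have hcardK : Fintype.card (E' ≃ₐ[K'] E') = Module.finrank K' E' := by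
    rw [← Nat.card_eq_fintype_card]; exact IsGalois.card_aut_eq_finrank K' E'
  set N := Nat.card {p : FunFld.Place k' K' // p.deg = 1} with hN
  set d2 := Module.finrank K' E'
  have hd2 : (0 : ℤ) < d2 := by exact_mod_cast Module.finrank_pos
  have hNle : (N : ℤ) ≤ Q + W := by
    have h1 := Finset.sum_le_card_nsmul (Finset.univ : Finset (E' ≃ₐ[K'] E')) _ _ fun σ _ => hub (lift σ)
    rw [hsumK, Finset.card_univ, hcardK, nsmul_eq_mul] at h1
    exact le_of_mul_le_mul_left h1 hd2
  have hNge : (Q : ℤ) - d1 * W ≤ N := by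
    have h1 := Finset.card_nsmul_le_sum (Finset.univ : Finset (E' ≃ₐ[K'] E')) _ _ fun σ _ => hlb (lift σ)
    rw [hsumK, Finset.card_univ, hcardK, nsmul_eq_mul] at h1
    exact le_of_mul_le_mul_left h1 hd2
  -- conclusion
  have habs : |(N : ℤ) - Q - 1| ≤ ((dF * (2 * g + 3) + 1 : ℕ) : ℤ) * r := by
    have hr1 : (1 : ℤ) ≤ r := by exact_mod_cast Nat.one_le_pow _ _ Nat.card_pos
    have hd1' : (d1 : ℤ) ≤ dF := by exact_mod_cast hd1le
    have hdF : (1 : ℤ) ≤ dF := by exact_mod_cast (Module.finrank_pos (R := F) (M := E))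
    have hW0 : (0 : ℤ) ≤ W := by positivity
    have hW1 : W ≤ (2 * (g : ℤ) + 3) * r := by simp only [W]; nlinarith
    push_cast
    rw [abs_le]
    constructor <;> nlinarith [mul_le_mul_of_nonneg_left hW1 (by linarith : (0 : ℤ) ≤ dF)]
  have hS := card_places_deg_one_constExt hK hK' hceK α hα
  rw [← hN, hnk] at hS
  have hmd : 2 * (m * d) * j = m * D := by simp only [D]; ring
  rw [hmd, show ∑ i, α i ^ (m * D) = -(((N : ℤ) - Q - 1 : ℤ) : ℂ) by
    rw [hQ]; push_cast; linear_combination hS, norm_neg, Complex.norm_intCast]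
  calc _ ≤ ((((dF * (2 * g + 3) + 1 : ℕ) : ℤ) * r : ℤ) : ℝ) := by exact_mod_cast habs
    _ = _ := by simp only [r]; push_cast; ring

/-- A rational function field below, and a Galois extension above. -/
theorem exists_galois {k : Type u} {K : Type v} [Field k] [Finite k] [Field K] [Algebra k K]
    (hK : FunFld.IsFunctionField k K) :
    ∃ (F E : Type v) (_ : Field F) (_ : Field E) (_ : Algebra k F) (_ : Algebra F K) (_ : Algebra k E)
      (_ : Algebra F E) (_ : Algebra K E),
      IsScalarTower k F E ∧ IsScalarTower k K E ∧ IsScalarTower F K E ∧ IsGalois F E ∧ FiniteDimensional F E ∧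
        FunFld.IsFunctionField k F ∧ FunFld.numerZ k F = 1 := by
  obtain ⟨x, hx, hsep⟩ := H23Geom.exists_separating hK (H23Geom.isGeometric_of_perfectField hK)
  set F := IntermediateField.adjoin k ({x} : Set K)
  haveI : FiniteDimensional F K := finiteDimensional_adjoin hK hx
  obtain ⟨γ, hγ⟩ := Field.exists_primitive_element F K
  obtain ⟨E, iE, iFE, hG, hfin, ⟨ι⟩⟩ : ∃ (E : Type v) (_ : Field E) (_ : Algebra F E),
      IsGalois F E ∧ FiniteDimensional F E ∧ Nonempty (K →ₐ[F] E) := by
    set f := minpoly F γ
    haveI : IsGalois F f.SplittingField :=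
      IsGalois.of_separable_splitting_field (p := f) (Algebra.IsSeparable.isSeparable F γ)
    exact ⟨f.SplittingField, inferInstance, inferInstance, inferInstance, inferInstance,
      IntermediateField.nonempty_algHom_of_adjoin_splits (F := F) (E := K) (K := f.SplittingField)
        (S := {γ}) (fun s hs => ⟨IsIntegral.of_finite F s, by
          rw [Set.mem_singleton_iff.1 hs]; exact Polynomial.SplittingField.splits f⟩) hγ⟩
  have hF : FunFld.IsFunctionField k F := by
    have htop : IntermediateField.adjoin k ({(⟨x, IntermediateField.mem_adjoin_simple_self k x⟩ : F)} : Set F) = ⊤ := by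
      refine IntermediateField.lift_injective F ?_
      rw [IntermediateField.lift_adjoin_simple, IntermediateField.lift_top]
    refine ⟨⟨⟨x, IntermediateField.mem_adjoin_simple_self k x⟩, fun h => hx (h.algebraMap (A := K)), ?_⟩, fun y hy => ?_⟩
    · rw [htop]
      exact Module.Finite.of_surjective (Algebra.linearMap (⊤ : IntermediateField k F) F)
        (fun z => ⟨⟨z, trivial⟩, rfl⟩)
    · obtain ⟨c, hc⟩ := hK.2 (algebraMap F K y) hy.algebraMap
      exact ⟨c, Subtype.ext hc⟩
  have hF0 : FunFld.numerZ k F = 1 := by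
    have hg : FunFld.genus k F = 0 := (genus_zero_of_adjoin_top hF (x := (⟨x, IntermediateField.mem_adjoin_simple_self k x⟩ : F))
      (IntermediateField.lift_injective F (by rw [IntermediateField.lift_adjoin_simple, IntermediateField.lift_top]))).1
    have h1 := exists_deg hF
    ext i
    rcases Nat.eq_zero_or_pos i with rfl | hi
    · have h := lc_zero hF h1
      rw [lc, Int.cast_eq_one] at h
      rw [h, PowerSeries.coeff_zero_one]
    · have h := lc_eq_zero hF h1 (i := i) (by omega)
      rw [lc, Int.cast_eq_zero] at h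
      rw [h, PowerSeries.coeff_one, if_neg hi.ne']
  letI ak : Algebra k E := ((algebraMap F E).comp (algebraMap k F)).toAlgebra
  haveI t1 : IsScalarTower k F E := IsScalarTower.of_algebraMap_eq fun _ => rfl
  haveI t2 : @IsScalarTower k K E _ ι.toRingHom.toAlgebra.toSMul ak.toSMul :=
    @IsScalarTower.of_algebraMap_eq k K E _ _ _ _ ι.toRingHom.toAlgebra ak fun c => (ι.commutes (algebraMap k F c)).symm
  haveI t3 : @IsScalarTower F K E _ ι.toRingHom.toAlgebra.toSMul iFE.toSMul :=
    @IsScalarTower.of_algebraMap_eq F K E _ _ _ _ ι.toRingHom.toAlgebra iFE fun c => (ι.commutes c).symm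
  exact ⟨F, E, inferInstance, iE, inferInstance, inferInstance, ak, iFE, ι.toRingHom.toAlgebra, t1, t2, t3, hG,
    hfin, hF, hF0⟩

/-- The Riemann hypothesis: the reciprocal roots have absolute value `√q`. -/
theorem norm_alpha_sq {k K : Type*} [Field k] [Finite k] [Field K] [Algebra k K]
    (hK : FunFld.IsFunctionField k K) :
    ∃ α : Fin (2 * FunFld.genus k K) → ℂ,
      PowerSeries.map (Int.castRingHom ℂ) (FunFld.numerZ k K) =
        ((∏ i, (1 - Polynomial.C (α i) * Polynomial.X) : Polynomial ℂ) : PowerSeries ℂ) ∧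
      ∀ i, ‖α i‖ ^ 2 = (Nat.card k : ℝ) := by
  obtain ⟨α, hα, hpair⟩ := exists_alpha hK
  obtain ⟨F, E, _, _, _, _, _, _, _, _, _, _, _, _, hF, hF0⟩ := exists_galois hK
  obtain ⟨M, hM, C, j0, hb⟩ := power_sum_bound (E := E) hF hF0 hK α hα
  set q : ℝ := (Nat.card k : ℝ)
  have hq : 0 < q := by simpa [q] using Nat.card_pos (α := k)
  have hle : ∀ i, ‖α i‖ ^ 2 ≤ q := by
    intro i
    have h1 := norm_le_one_of_bounded (fun i => α i ^ (2 * M) / ((q : ℂ) ^ M)) C j0 (fun j hj => by
      simp only [div_pow, ← pow_mul, ← Finset.sum_div]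
      rw [norm_div, norm_pow, Complex.norm_real, Real.norm_of_nonneg hq.le, div_le_iff₀ (pow_pos hq _)]
      exact hb j hj) i
    rw [norm_div, norm_pow, norm_pow, Complex.norm_real, Real.norm_of_nonneg hq.le, div_le_one (pow_pos hq _),
      pow_mul] at h1
    exact (pow_le_pow_iff_left₀ (by positivity) hq.le hM.ne').1 h1
  refine ⟨α, hα, fun i => le_antisymm (hle i) ?_⟩
  have h2 := hle (Fin.rev i)
  have h3 : ‖α i‖ * ‖α (Fin.rev i)‖ = q := by
    rw [← norm_mul, hpair i]
    simp [q]
  nlinarith [mul_le_mul_of_nonneg_left h2 (sq_nonneg ‖α i‖)]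

end Groth.Agent.H23Zeta
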